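import Groth.Agent.L04.KSh.Div.Basic

/-!
# The Koszul complex of divisors twisted by a divisor
-/

set_option autoImplicit false
set_option linter.style.haveILetI false
set_option backward.isDefEq.respectTransparency false

universe u

open CategoryTheory CategoryTheory.Limits TopologicalSpace AlgebraicGeometry Opposite exteriorPower
open Groth.L18.Frame (rs IsFrame)
open Groth.L18.GenLoc (tens)
open Groth.L00.Tensor (tensorMap tensorUnitRight)
open Groth.Agent.L19.IdealInvertible (io io_rs io_smul io_inj)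

noncomputable section

namespace Groth.L04.KSh

variable {X : Scheme.{u}}

theorem exists_cycle (K : ChainComplex X.Modules ℕ) (q : ℕ) (U : X.Opens) (w : Γ(K.X q, U))
    (hw : (K.d q ((ComplexShape.down ℕ).next q)).app U w = 0) :
    ∃ z : Γ(K.cycles q, U), (K.iCycles q).app U z = w := by
  let E := SheafOfModules.evaluation.{u} X.ringCatSheaf (op U)
  haveI : E.Additive := Functor.additive_of_preserves_binary_products E
  let S₀ := ShortComplex.mk (K.iCycles q) (K.d q ((ComplexShape.down ℕ).next q)) (K.iCycles_d q _)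
  let S := S₀.map E
  have hk : IsLimit (KernelFork.ofι S.f S.zero) :=
    isLimitForkMapOfIsLimit' E (K.iCycles_d q _) (K.cyclesIsKernel q _ rfl)
  exact (ShortComplex.moduleCat_exact_iff S).1 (ShortComplex.exact_of_f_is_kernel S hk) w hw

theorem powFrame_succ (L : X.Modules) (U : X.Opens) (e : Γ(L, U)) (q : ℕ) :
    KoszTw.tprod L (q + 1) U (fun _ => e) =
      SecTwist.tmul (CohB1.tensorPow L q) L U (KoszTw.tprod L q U fun _ => e) e := rfl

/-- The inclusion of powers of an ideal module. -/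
def powι (J : X.IdealSheafData) : ∀ q : ℕ, CohB1.tensorPow (ClSub.idealMod J) q ⟶ Coh.structureModule X
  | 0 => 𝟙 _
  | q + 1 => tensorMap (powι J q) (ClSub.idealModι J) ≫ (tensorUnitRight (Coh.structureModule X)).hom

theorem powι_app (J : X.IdealSheafData) (U : X.Opens) (e : Γ(ClSub.idealMod J, U)) : ∀ q : ℕ,
    (show Γ(X, U) from (powι J q).app U (KoszTw.tprod (ClSub.idealMod J) q U fun _ => e)) = io J U e ^ q
  | 0 => (pow_zero _).symm
  | q + 1 => by
    rw [pow_succ]
    refine Eq.trans ?_ (congrArg (· * io J U e) (powι_app J U e q))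
    refine ((congrArg ((tensorUnitRight (Coh.structureModule X)).hom.app U)
      (Groth.L16.HomSh.tensorMap_tens (powι J q) (ClSub.idealModι J) U
        (KoszTw.tprod (ClSub.idealMod J) q U fun _ => e) e)).trans
      (Groth.L20.ResDescent.tensorUnitRight_app (Coh.structureModule X) U _ _)).trans ?_
    exact mul_comm (G := Γ(X, U)) _ _

/-- Multiplication by powers of an ideal. -/
def powMul (J : X.IdealSheafData) (M : X.Modules) (q : ℕ) :
    CohB1.tensorMod M (CohB1.tensorPow (ClSub.idealMod J) q) ⟶ M :=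
  tensorMap (𝟙 M) (powι J q) ≫ (tensorUnitRight M).hom

theorem powMul_app (J : X.IdealSheafData) (M : X.Modules) (q : ℕ) (U : X.Opens) (m : Γ(M, U))
    (e : Γ(ClSub.idealMod J, U)) :
    (powMul J M q).app U (tens M _ U m (KoszTw.tprod (ClSub.idealMod J) q U fun _ => e)) = io J U e ^ q • m := by
  rw [powMul, comp_app_apply, Groth.L16.HomSh.tensorMap_tens, ← powι_app J U e q]
  exact Groth.L20.ResDescent.tensorUnitRight_app M U m _

section Incl

variable {I J : X.IdealSheafData}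

theorem idealModι_toSubscheme (h : ∀ V : X.affineOpens, J.ideal V ≤ I.ideal V) :
    ClSub.idealModι J ≫ ClSub.toSubscheme I = 0 := by
  refine hom_ext_cover fun x W hx => ?_
  obtain ⟨V, hV, hxV, hVW⟩ := exists_isAffineOpen_mem_and_subset (x := x) (U := W) hx
  refine ⟨⟨V, hV⟩, hxV, hVW, fun m => ?_⟩
  obtain ⟨m', hm'⟩ := (Groth.L18.IdealModule.mem_ideal_iff I hV _).1
    (h ⟨V, hV⟩ ((Groth.L18.IdealModule.mem_ideal_iff J hV _).2 ⟨m, rfl⟩))
  rw [zero_app, comp_app_apply]
  refine (congrArg ((ClSub.toSubscheme I).app V) hm'.symm).trans ?_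
  rw [← comp_app_apply]
  show ((kernel.ι (ClSub.toSubscheme I) ≫ ClSub.toSubscheme I)).app V m' = 0
  rw [kernel.condition, zero_app]

/-- The inclusion of a smaller ideal. -/
def inclMap (h : ∀ V : X.affineOpens, J.ideal V ≤ I.ideal V) : ClSub.idealMod J ⟶ ClSub.idealMod I :=
  kernel.lift _ (ClSub.idealModι J) (idealModι_toSubscheme h)

theorem inclMap_ι (h : ∀ V : X.affineOpens, J.ideal V ≤ I.ideal V) :
    inclMap h ≫ ClSub.idealModι I = ClSub.idealModι J := kernel.lift_ι _ _ _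

theorem io_inclMap (h : ∀ V : X.affineOpens, J.ideal V ≤ I.ideal V) (U : X.Opens) (m : Γ(ClSub.idealMod J, U)) :
    io I U ((inclMap h).app U m) = io J U m := by
  show (ClSub.idealModι I).app U _ = _
  rw [← comp_app_apply, inclMap_ι]

end Incl

theorem mul_ideal_le (I J : X.IdealSheafData) (V : X.affineOpens) : (I * J).ideal V ≤ I.ideal V := by
  rw [Scheme.IdealSheafData.ideal_mul, Pi.mul_apply]
  exact Ideal.mul_le_left

theorem io_mem_ideal (I : X.IdealSheafData) {U : X.affineOpens} (e : Γ(ClSub.idealMod I, U.1)) :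
    io I U.1 e ∈ I.ideal U :=
  (Groth.L18.IdealModule.mem_ideal_iff I U.2 _).2 ⟨e, rfl⟩

theorem ideal_eq_span (I : X.IdealSheafData) {U : X.affineOpens} {e : Γ(ClSub.idealMod I, U.1)}
    (he : IsFrame _ U.1 e) : I.ideal U = Ideal.span {io I U.1 e} := by
  refine le_antisymm (fun a ha => ?_) (by rw [Ideal.span_le, Set.singleton_subset_iff]; exact io_mem_ideal I e)
  obtain ⟨m, hm⟩ := (Groth.L18.IdealModule.mem_ideal_iff I U.2 a).1 ha
  obtain ⟨c, hc⟩ := he.exists_coeff le_rfl m
  rw [Groth.L18.Frame.rs_self] at hc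
  rw [Ideal.mem_span_singleton']
  refine ⟨c, ?_⟩
  rw [← io_smul, hc]
  exact hm

theorem io_mem_nzd (I : X.IdealSheafData) {U : X.Opens} {e : Γ(ClSub.idealMod I, U)}
    (he : IsFrame _ U e) : io I U e ∈ nonZeroDivisors Γ(X, U) := by
  rw [mem_nonZeroDivisors_iff_right]
  intro a ha
  refine he.inj le_rfl (io_inj I U ?_)
  simp only [Groth.L18.Frame.rs_self, io_smul, zero_mul]
  exact ha

theorem isEffCartier_mul {I J : X.IdealSheafData} (hI : BlowUp.IsEffCartierIdeal I)
    (hJ : BlowUp.IsEffCartierIdeal J) : BlowUp.IsEffCartierIdeal (I * J) := by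
  intro x
  obtain ⟨O, e, hxO, he⟩ :=
    Groth.L18.Frame.exists_frame ((Groth.Agent.L19.IdealInvertible.isEffCartier_iff I).2 hI) x
  obtain ⟨O', e', hxO', he'⟩ :=
    Groth.L18.Frame.exists_frame ((Groth.Agent.L19.IdealInvertible.isEffCartier_iff J).2 hJ) x
  obtain ⟨V, hV, hxV, hle⟩ := exists_isAffineOpen_mem_and_subset (x := x) (U := O ⊓ O') ⟨hxO, hxO'⟩
  have he₁ := he.mono (fun z hz => (hle hz).1 : V ≤ O)
  have he₂ := he'.mono (fun z hz => (hle hz).2 : V ≤ O')
  refine ⟨⟨V, hV⟩, hxV, _, mul_mem (io_mem_nzd I he₁) (io_mem_nzd J he₂), ?_⟩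
  rw [Scheme.IdealSheafData.ideal_mul, Pi.mul_apply, ideal_eq_span I (U := ⟨V, hV⟩) he₁,
    ideal_eq_span J (U := ⟨V, hV⟩) he₂, Ideal.span_singleton_mul_span_singleton]

variable {n : ℕ} (IY : Fin n → X.IdealSheafData) (ID : X.IdealSheafData)

/-- The cosection of several divisors. -/
abbrev sumι : (∐ fun i => ClSub.idealMod (IY i)) ⟶ Coh.structureModule X :=
  Sigma.desc fun i => ClSub.idealModι (IY i)

/-- A small affine open with frames of all the ideal modules in play. -/
structure Frames where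
  /-- the open -/
  U : X.affineOpens
  /-- the frames -/
  e : ∀ i, Γ(ClSub.idealMod (IY i), U.1)
  he : ∀ i, IsFrame _ U.1 (e i)
  /-- the frame of the twist -/
  eD : Γ(ClSub.idealMod ID, U.1)
  heD : IsFrame _ U.1 eD

theorem exists_frames (hY : ∀ i, BlowUp.IsEffCartierIdeal (IY i)) (hD : BlowUp.IsEffCartierIdeal ID)
    (x : X) (W : X.Opens) (hx : x ∈ W) : ∃ F : Frames IY ID, x ∈ F.U.1 ∧ F.U.1 ≤ W := by
  choose O e hxO he using fun i =>
    Groth.L18.Frame.exists_frame ((Groth.Agent.L19.IdealInvertible.isEffCartier_iff (IY i)).2 (hY i)) x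
  obtain ⟨O', eD, hxO', heD⟩ :=
    Groth.L18.Frame.exists_frame ((Groth.Agent.L19.IdealInvertible.isEffCartier_iff ID).2 hD) x
  let S : X.Opens := Finset.univ.inf O
  have hS : x ∈ S := by
    have : ∀ s : Finset (Fin n), x ∈ s.inf O := fun s => by
      induction s using Finset.induction_on with
      | empty => exact Opens.mem_top x
      | insert a s _ ih => rw [Finset.inf_insert]; exact ⟨hxO a, ih⟩
    exact this _
  obtain ⟨V, hV, hxV, hle⟩ := exists_isAffineOpen_mem_and_subset (x := x) (U := (W ⊓ O') ⊓ S) ⟨⟨hx, hxO'⟩, hS⟩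
  exact ⟨⟨⟨V, hV⟩, fun i => rs _ (fun z hz => (Finset.inf_le (Finset.mem_univ i) : S ≤ O i) (hle hz).2) (e i),
    fun i => (he i).mono _, rs _ (fun z hz => (hle hz).1.2) eD, heD.mono _⟩, hxV, fun z hz => (hle hz).1.1⟩

/-- The map of twisted divisors to the divisors. -/
def sumIncl : (∐ fun i => ClSub.idealMod (IY i * ID)) ⟶ ∐ fun i => ClSub.idealMod (IY i) :=
  Sigma.desc fun i => inclMap (mul_ideal_le (IY i) ID) ≫ Sigma.ι (fun i => ClSub.idealMod (IY i)) i

theorem sumIncl_comp : sumIncl IY ID ≫ sumι IY = sumι (fun i => IY i * ID) := by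
  refine Sigma.hom_ext _ _ fun i => ?_
  simp [sumIncl, inclMap_ι]

variable {IY ID}

/-- The parameter of the twist. -/
abbrev Frames.x (F : Frames IY ID) : Γ(X, F.U.1) := io ID F.U.1 F.eD

variable (C : KoszSh.Cx (∐ fun i => ClSub.idealMod (IY i)) (sumι IY))
  (C' : KoszSh.Cx (∐ fun i => ClSub.idealMod (IY i * ID)) (sumι fun i => IY i * ID))

theorem Frames.exists_scaled (F : Frames IY ID) (hY : ∀ i, BlowUp.IsEffCartierIdeal (IY i))
    (hD : BlowUp.IsEffCartierIdeal ID) :
    ∃ τ : Γ((∐ fun i => ClSub.idealMod (IY i * ID)), F.U.1) ≃ₗ[Γ(X, F.U.1)]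
        Γ((∐ fun i => ClSub.idealMod (IY i)), F.U.1),
      ∀ v, (sumIncl IY ID).app F.U.1 v = F.x • τ v := by
  have hmem : ∀ i, io (IY i) F.U.1 (F.e i) * F.x ∈ (IY i * ID).ideal F.U := fun i => by
    rw [Scheme.IdealSheafData.ideal_mul]
    exact Ideal.mul_mem_mul (io_mem_ideal _ _) (io_mem_ideal _ _)
  choose e' he' using fun i => (Groth.L18.IdealModule.mem_ideal_iff (IY i * ID) F.U.2 _).1 (hmem i)
  have hfr : ∀ i, IsFrame (ClSub.idealMod (IY i * ID)) F.U.1 (e' i) := fun i =>
    Groth.L03.BlowPt.isFrame_of_span _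
      ((Groth.Agent.L19.IdealInvertible.isEffCartier_iff _).2 (isEffCartier_mul (hY i) hD)) F.U.2 _
      (mul_mem (io_mem_nzd _ (F.he i)) (io_mem_nzd _ F.heD))
      (by rw [Scheme.IdealSheafData.ideal_mul, Pi.mul_apply, ideal_eq_span (IY i) (F.he i),
        ideal_eq_span ID F.heD, Ideal.span_singleton_mul_span_singleton])
      _ (he' i)
  let b' := sigmaBasis (fun i => ClSub.idealMod (IY i * ID)) F.U.1 e' hfr
  let b := sigmaBasis (fun i => ClSub.idealMod (IY i)) F.U.1 F.e F.he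
  refine ⟨b'.equiv b (Equiv.refl _), fun v => ?_⟩
  have : appₗ (sumIncl IY ID) F.U.1 =
      F.x • (b'.equiv b (Equiv.refl _)).toLinearMap := by
    refine b'.ext fun i => ?_
    rw [LinearMap.smul_apply, LinearEquiv.coe_coe, Module.Basis.equiv_apply, Equiv.refl_apply, appₗ_apply,
      sigmaBasis_apply, sigmaBasis_apply, ← comp_app_apply]
    rw [show Sigma.ι (fun i => ClSub.idealMod (IY i * ID)) i ≫ sumIncl IY ID =
      inclMap (mul_ideal_le (IY i) ID) ≫ Sigma.ι (fun i => ClSub.idealMod (IY i)) i from Sigma.ι_desc _ i,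
      comp_app_apply, ← Scheme.Modules.Hom.app_smul]
    refine congrArg _ (io_inj (IY i) F.U.1 ?_)
    rw [io_inclMap, io_smul]
    exact (he' i).trans (mul_comm _ _)
  exact LinearMap.congr_fun this v

/-- The chain map of twisted divisors. -/
def phi : C'.K ⟶ C.K :=
  (exists_unique_chainMap C' C (sumIncl IY ID) (sumIncl_comp IY ID)).choose

theorem phi_ιMulti (p : ℕ) (U : X.affineOpens) (e : Fin p → Γ((∐ fun i => ClSub.idealMod (IY i * ID)), U.1)) :
    ((phi C C').f p).app U.1 ((C'.loc p U).symm (ιMulti _ p e)) =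
      (C.loc p U).symm (ιMulti _ p (fun j => (sumIncl IY ID).app U.1 (e j))) :=
  (exists_unique_chainMap C' C (sumIncl IY ID) (sumIncl_comp IY ID)).choose_spec.1 p U e

theorem phi_app (hY : ∀ i, BlowUp.IsEffCartierIdeal (IY i))
    (hD : BlowUp.IsEffCartierIdeal ID) (F : Frames IY ID) (p : ℕ) :
    ∃ T : Γ(C'.K.X p, F.U.1) ≃ₗ[Γ(X, F.U.1)] Γ(C.K.X p, F.U.1),
      ∀ v, ((phi C C').f p).app F.U.1 v = F.x ^ p • T v := by
  obtain ⟨τ, hτ⟩ := F.exists_scaled hY hD
  let T := (C'.loc p F.U).trans ((LinearEquiv.ofBijective _ (exteriorPower_map_bijective p τ)).trans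
    (C.loc p F.U).symm)
  refine ⟨T, fun v => ?_⟩
  have : appₗ ((phi C C').f p) F.U.1 = F.x ^ p • T.toLinearMap := by
    refine ext_ιMulti C' p F.U fun e => ?_
    have hT : T ((C'.loc p F.U).symm (ιMulti _ p e)) =
        (C.loc p F.U).symm (ιMulti _ p fun j => τ (e j)) := by
      simp only [T, LinearEquiv.trans_apply, LinearEquiv.apply_symm_apply, LinearEquiv.ofBijective_apply,
        exteriorPower.map_apply_ιMulti]
      rfl
    rw [LinearMap.smul_apply, LinearEquiv.coe_coe, hT, ← map_smul, appₗ_apply, phi_ιMulti]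
    refine congrArg _ ?_
    simp only [hτ]
    rw [(ιMulti Γ(X, F.U.1) p).map_smul_univ (fun _ => F.x)]
    simp
  exact LinearMap.congr_fun this v

theorem isSMulRegular_terms (F : Frames IY ID) (p m : ℕ) :
    IsSMulRegular Γ(C.K.X p, F.U.1) (F.x ^ m) := by
  intro a b h
  let bD := ((sigmaBasis (fun i => ClSub.idealMod (IY i)) F.U.1 F.e F.he).exteriorPower p).map
    (C.loc p F.U).symm
  refine sub_eq_zero.1 (bD.repr.injective ?_)
  ext i
  have h2 := congrArg (fun v => bD.repr v i) h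
  simp only [map_smul, Finsupp.smul_apply, smul_eq_mul] at h2
  rw [map_sub, map_zero, Finsupp.sub_apply, Finsupp.coe_zero, Pi.zero_apply]
  refine mem_nonZeroDivisors_iff_right.1 (pow_mem (io_mem_nzd ID F.heD) m) _ ?_
  rw [mul_comm, mul_sub, h2, sub_self]

theorem mono_phi (hY : ∀ i, BlowUp.IsEffCartierIdeal (IY i))
    (hD : BlowUp.IsEffCartierIdeal ID) (p : ℕ) : Mono ((phi C C').f p) :=
  Preadditive.mono_of_cancel_zero _ fun {P} g hg => hom_ext_cover fun x W hx => by
    obtain ⟨F, hxU, hUW⟩ := exists_frames IY ID hY hD x W hx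
    refine ⟨F.U, hxU, hUW, fun m => ?_⟩
    obtain ⟨T, hT⟩ := phi_app C C' hY hD F p
    rw [zero_app]
    refine T.map_eq_zero_iff.1 (isSMulRegular_terms C F p p ?_)
    show F.x ^ p • T (g.app F.U.1 m) = F.x ^ p • 0
    rw [← hT, ← comp_app_apply, hg, zero_app, smul_zero]

/-- The twisted cycles. -/
theorem exists_iso_cycles_twisted (hY : ∀ i, BlowUp.IsEffCartierIdeal (IY i))
    (hD : BlowUp.IsEffCartierIdeal ID) (q : ℕ) :
    ∃ ν : CohB1.tensorMod (C.K.cycles q) (CohB1.tensorPow (ClSub.idealMod ID) q) ≅ C'.K.cycles q,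
      ∀ (F : Frames IY ID) (z : Γ(C.K.cycles q, F.U.1)),
        ((phi C C').f q).app F.U.1 ((C'.K.iCycles q).app F.U.1 (ν.hom.app F.U.1
            (tens (C.K.cycles q) _ F.U.1 z (KoszTw.tprod (ClSub.idealMod ID) q F.U.1 fun _ => F.eD)))) =
          F.x ^ q • (C.K.iCycles q).app F.U.1 z := by
  set M := CohB1.tensorMod (C.K.cycles q) (CohB1.tensorPow (ClSub.idealMod ID) q) with hM
  haveI := mono_phi C C' hY hD q
  let μ : M ⟶ C.K.X q := powMul ID (C.K.cycles q) q ≫ C.K.iCycles q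
  have hμ : ∀ (F : Frames IY ID) (z : Γ(C.K.cycles q, F.U.1)),
      μ.app F.U.1 (tens (C.K.cycles q) _ F.U.1 z (KoszTw.tprod (ClSub.idealMod ID) q F.U.1 fun _ => F.eD)) =
        F.x ^ q • (C.K.iCycles q).app F.U.1 z := fun F z => by
    simp only [μ]
    rw [comp_app_apply]
    refine (congrArg ((C.K.iCycles q).app F.U.1) (powMul_app ID (C.K.cycles q) q F.U.1 z F.eD)).trans ?_
    exact Scheme.Modules.Hom.app_smul _ _ _
  have hsurj : ∀ (F : Frames IY ID) (m : Γ(M, F.U.1)), ∃ z,
      tens (C.K.cycles q) _ F.U.1 z (KoszTw.tprod (ClSub.idealMod ID) q F.U.1 fun _ => F.eD) = m := fun F m =>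
    (bijective_tmul (M := C.K.cycles q) (isFrame_tprod F.heD q)).2 m
  have hcok : μ ≫ cokernel.π ((phi C C').f q) = 0 := hom_ext_cover fun x W hx => by
    obtain ⟨F, hxU, hUW⟩ := exists_frames IY ID hY hD x W hx
    refine ⟨F.U, hxU, hUW, fun m => ?_⟩
    obtain ⟨z, rfl⟩ := hsurj F m
    obtain ⟨T, hT⟩ := phi_app C C' hY hD F q
    rw [zero_app, comp_app_apply, hμ, show F.x ^ q • (C.K.iCycles q).app F.U.1 z =
      ((phi C C').f q).app F.U.1 (T.symm ((C.K.iCycles q).app F.U.1 z)) by rw [hT, T.apply_symm_apply],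
      ← comp_app_apply, cokernel.condition, zero_app]
  let ν₀ : M ⟶ C'.K.X q := Abelian.monoLift ((phi C C').f q) μ hcok
  have hν₀ : ν₀ ≫ (phi C C').f q = μ := Abelian.monoLift_comp _ _ _
  haveI := mono_phi C C' hY hD ((ComplexShape.down ℕ).next q)
  have hzero : ν₀ ≫ C'.K.d q ((ComplexShape.down ℕ).next q) = 0 := by
    rw [← cancel_mono ((phi C C').f ((ComplexShape.down ℕ).next q)), Category.assoc,
      ← (phi C C').comm, reassoc_of% hν₀, zero_comp]
    simp only [μ, Category.assoc, HomologicalComplex.iCycles_d, comp_zero]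
  let ν := C'.K.liftCycles ν₀ _ rfl hzero
  have hν : ν ≫ C'.K.iCycles q ≫ (phi C C').f q = μ := by
    rw [← Category.assoc, C'.K.liftCycles_i, hν₀]
  haveI : Mono ν := Preadditive.mono_of_cancel_zero _ fun {P} g hg => hom_ext_cover fun x W hx => by
    obtain ⟨F, hxU, hUW⟩ := exists_frames IY ID hY hD x W hx
    refine ⟨F.U, hxU, hUW, fun m => ?_⟩
    obtain ⟨z, hz⟩ := hsurj F (g.app F.U.1 m)
    have h0 : μ.app F.U.1 (g.app F.U.1 m) = 0 := by
      rw [← comp_app_apply, ← hν, reassoc_of% hg, zero_comp, zero_app]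
    rw [← hz, hμ] at h0
    have hz0 : z = 0 := app_injective_of_mono (C.K.iCycles q) F.U.1 (isSMulRegular_terms C F q q (by
      show F.x ^ q • _ = F.x ^ q • _
      rw [h0, map_zero, smul_zero]))
    rw [zero_app, ← hz, hz0]
    exact Groth.L19.ProjBdl.tens_zero_left _
  haveI : Epi ν := Preadditive.epi_of_cancel_zero _ fun {P} g hg => hom_ext_cover fun x W hx => by
    obtain ⟨F, hxU, hUW⟩ := exists_frames IY ID hY hD x W hx
    refine ⟨F.U, hxU, hUW, fun c => ?_⟩
    obtain ⟨T, hT⟩ := phi_app C C' hY hD F q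
    set w := T ((C'.K.iCycles q).app F.U.1 c) with hw
    have hd : (C.K.d q ((ComplexShape.down ℕ).next q)).app F.U.1 w = 0 := by
      refine isSMulRegular_terms C F _ q ?_
      show F.x ^ q • _ = F.x ^ q • 0
      rw [← Scheme.Modules.Hom.app_smul, hw, ← hT, smul_zero, ← comp_app_apply, (phi C C').comm,
        comp_app_apply, ← comp_app_apply (C'.K.iCycles q), HomologicalComplex.iCycles_d, zero_app, map_zero]
    obtain ⟨z, hz⟩ := exists_cycle C.K q F.U.1 w hd
    have hc : ν.app F.U.1 (tens (C.K.cycles q) _ F.U.1 z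
        (KoszTw.tprod (ClSub.idealMod ID) q F.U.1 fun _ => F.eD)) = c := by
      refine app_injective_of_mono (C'.K.iCycles q ≫ (phi C C').f q) F.U.1 ?_
      rw [← comp_app_apply ν, hν, hμ, hz, hw, ← hT, comp_app_apply]
    rw [zero_app, ← hc, ← comp_app_apply ν g, hg, zero_app]
  haveI : IsIso ν := isIso_of_mono_of_epi ν
  refine ⟨asIso ν, fun F z => ?_⟩
  rw [← hμ F z, ← hν, comp_app_apply, comp_app_apply]
  rfl

end Groth.L04.KSh
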