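import Groth.Agent.L04.KSh.Twist
import Groth.Agent.L03.BlowPt.Frames
import Groth.Agent.L12.VBLift.Seq

/-!
# Sections of finite coproducts, gluing from small affines, and the right exact restriction sequence
-/

set_option autoImplicit false
set_option linter.style.haveILetI false
set_option backward.isDefEq.respectTransparency false

universe u

open CategoryTheory CategoryTheory.Limits TopologicalSpace AlgebraicGeometry Opposite exteriorPower
open Groth.L18.Frame (rs IsFrame)
open Groth.L00.Tensor (tensorMap tensorLeftF tensorUnitRight)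
open Groth.L18.GenLoc (tens)

noncomputable section

namespace Groth.L04.KSh

variable {X : Scheme.{u}}

theorem rs_app {M N : X.Modules} (α : M ⟶ N) {U V : X.Opens} (h : V ≤ U) (m : Γ(M, U)) :
    α.app V (rs M h m) = rs N h (α.app U m) :=
  ConcreteCategory.congr_hom (α.mapPresheaf.naturality (homOfLE h).op) m

section Sigma

variable {n : ℕ} (F : Fin n → X.Modules)

/-- The coordinates of a finite coproduct. -/
def sigmaProj (k : Fin n) : (∐ F) ⟶ F k :=
  Sigma.desc fun i => if h : i = k then eqToHom (congrArg F h) else 0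

theorem ι_sigmaProj (i k : Fin n) :
    Sigma.ι F i ≫ sigmaProj F k = if h : i = k then eqToHom (congrArg F h) else 0 :=
  Sigma.ι_desc _ i

theorem sum_sigmaProj : ∑ i, sigmaProj F i ≫ Sigma.ι F i = 𝟙 (∐ F) := by
  refine Sigma.hom_ext _ _ fun k => ?_
  rw [Preadditive.comp_sum, Category.comp_id, Finset.sum_eq_single k]
  · rw [← Category.assoc, ι_sigmaProj, dif_pos rfl]
    simp
  · intro i _ hi
    rw [← Category.assoc, ι_sigmaProj, dif_neg (Ne.symm hi), zero_comp]
  · exact fun hk => (hk (Finset.mem_univ k)).elim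

theorem sigmaProj_self (k : Fin n) (U : X.Opens) (m : Γ(F k, U)) :
    (sigmaProj F k).app U ((Sigma.ι F k).app U m) = m := by
  rw [← comp_app_apply, ι_sigmaProj, dif_pos rfl]
  rfl

theorem sigmaProj_ne {i k : Fin n} (h : i ≠ k) (U : X.Opens) (m : Γ(F i, U)) :
    (sigmaProj F k).app U ((Sigma.ι F i).app U m) = 0 := by
  rw [← comp_app_apply, ι_sigmaProj, dif_neg h]
  rfl

/-- The basis of sections of a finite coproduct over an open where the summands have frames. -/
def sigmaBasis (U : X.Opens) (e : ∀ k, Γ(F k, U)) (he : ∀ k, IsFrame (F k) U (e k)) :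
    Module.Basis (Fin n) Γ(X, U) Γ(∐ F, U) :=
  Module.Basis.ofEquivFun (LinearEquiv.ofBijective
    (∑ k, (LinearMap.proj k).smulRight ((Sigma.ι F k).app U (e k)) :
      (Fin n → Γ(X, U)) →ₗ[Γ(X, U)] Γ(∐ F, U)) (by
    have hf : ∀ r : Fin n → Γ(X, U), (∑ k, (LinearMap.proj k).smulRight ((Sigma.ι F k).app U (e k)) :
        (Fin n → Γ(X, U)) →ₗ[Γ(X, U)] Γ(∐ F, U)) r = ∑ k, (Sigma.ι F k).app U (r k • e k) := fun r => by
      simp [Scheme.Modules.Hom.app_smul]
    refine ⟨fun r r' h => funext fun k => ?_, fun x => ?_⟩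
    · have key : ∀ r : Fin n → Γ(X, U),
          (sigmaProj F k).app U (∑ i, (Sigma.ι F i).app U (r i • e i)) = r k • e k := fun r => by
        rw [map_sum, Finset.sum_eq_single k (fun i _ hi => sigmaProj_ne F hi U _)
          (fun hk => (hk (Finset.mem_univ k)).elim)]
        exact sigmaProj_self F k U _
      have h1 := congrArg ((sigmaProj F k).app U) ((hf r).symm.trans (h.trans (hf r')))
      rw [key, key] at h1
      refine (he k).inj le_rfl ?_
      simpa only [Groth.L18.Frame.rs_self] using h1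
    · choose r hr using fun k => (he k).exists_coeff le_rfl ((sigmaProj F k).app U x)
      refine ⟨r, (hf r).trans ?_⟩
      refine Eq.trans ?_ (congr($(sum_sigmaProj F).app U x))
      refine Eq.trans ?_ (Groth.L12.FinCov.app_sum Finset.univ (fun i => sigmaProj F i ≫ Sigma.ι F i) U x).symm
      refine Finset.sum_congr rfl fun i _ => ?_
      rw [comp_app_apply, ← hr i, Groth.L18.Frame.rs_self])).symm

theorem sigmaBasis_apply (U : X.Opens) (e : ∀ k, Γ(F k, U)) (he : ∀ k, IsFrame (F k) U (e k)) (k : Fin n) :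
    sigmaBasis F U e he k = (Sigma.ι F k).app U (e k) := by
  rw [sigmaBasis, Module.Basis.coe_ofEquivFun, LinearEquiv.symm_symm]
  dsimp only
  rw [LinearEquiv.ofBijective_apply]
  simp [LinearMap.coe_sum, Pi.single_apply, ite_smul]

end Sigma

/-- A morphism from compatible linear maps on a basis of affine opens. -/
theorem exists_hom_basis {M N : X.Modules} {ι : Type*} (B : ι → X.affineOpens)
    (hB : Opens.IsBasis (Set.range fun i => (B i).1))
    (φ : ∀ i, Γ(M, (B i).1) →ₗ[Γ(X, (B i).1)] Γ(N, (B i).1))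
    (hnat : ∀ (i j : ι) (h : (B j).1 ≤ (B i).1) (s : Γ(M, (B i).1)),
      φ j (rs M h s) = rs N h (φ i s)) :
    ∃ Φ : M ⟶ N, ∀ (i : ι) (s : Γ(M, (B i).1)), Φ.app (B i).1 s = φ i s := by
  let Bo := fun i => (B i).1
  let α : (inducedFunctor Bo).op ⋙ M.presheaf ⟶ (inducedFunctor Bo).op ⋙ N.presheaf :=
    { app := fun p => AddCommGrpCat.ofHom (φ p.unop).toAddMonoidHom
      naturality := fun p q g => by
        ext s
        exact hnat p.unop q.unop g.unop.hom.le s }
  let Φ₀ : M.presheaf ⟶ N.presheaf :=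
    TopCat.Sheaf.restrictHomEquivHom M.presheaf ⟨N.presheaf, N.isSheaf⟩ hB α
  have hΦ₀ : ∀ (i : ι) (s : Γ(M, (B i).1)), Φ₀.app (op (B i).1) s = φ i s := fun i s =>
    ConcreteCategory.congr_hom (TopCat.Sheaf.extend_hom_app M.presheaf ⟨N.presheaf, N.isSheaf⟩ hB α i) s
  have hlin : ∀ (V : (Opens X)ᵒᵖ) (r : X.ringCatSheaf.obj.obj V) (s : M.val.obj V),
      Φ₀.app V (r • s) = r • (show N.val.obj V from Φ₀.app V s) := by
    intro V r s
    refine TopCat.Presheaf.section_ext ((Groth.L21.Mod.toAbSh X).obj N) V.unop _ _ fun x hx => ?_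
    obtain ⟨_, ⟨i, rfl⟩, hxW, hWV⟩ := (Opens.isBasis_iff_nbhd.1 hB) hx
    show N.presheaf.germ V.unop x hx _ = N.presheaf.germ V.unop x hx _
    rw [← N.presheaf.germ_res_apply (homOfLE hWV) x hxW, ← N.presheaf.germ_res_apply (homOfLE hWV) x hxW]
    congr 1
    have n1 : ∀ t, N.presheaf.map (homOfLE hWV).op (Φ₀.app V t) =
        Φ₀.app (op (B i).1) (M.presheaf.map (homOfLE hWV).op t) := fun t =>
      (ConcreteCategory.congr_hom (Φ₀.naturality (homOfLE hWV).op) t).symm
    refine (n1 (r • s)).trans ?_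
    refine Eq.trans ?_ (Scheme.Modules.map_smul N (homOfLE hWV) r (Φ₀.app V s)).symm
    rw [n1, hΦ₀ i, hΦ₀ i]
    exact (congrArg (φ i) (Scheme.Modules.map_smul M (homOfLE hWV) r s)).trans ((φ i).map_smul _ _)
  exact ⟨⟨PresheafOfModules.homMk Φ₀ hlin⟩, hΦ₀⟩

/-- The multiplication map of a module with an ideal module. -/
def kappa (I : X.IdealSheafData) (F : X.Modules) : CohB1.tensorMod F (ClSub.idealMod I) ⟶ F :=
  tensorMap (𝟙 F) (ClSub.idealModι I) ≫ (tensorUnitRight F).hom

open Groth.Agent.L19.IdealInvertible (io) in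
theorem kappa_tens (I : X.IdealSheafData) (F : X.Modules) (U : X.Opens) (m : Γ(F, U))
    (e : Γ(ClSub.idealMod I, U)) :
    (kappa I F).app U (tens F (ClSub.idealMod I) U m e) = io I U e • m := by
  rw [kappa, comp_app_apply, Groth.L16.HomSh.tensorMap_tens]
  exact Groth.L20.ResDescent.tensorUnitRight_app F U m _

open Groth.L12.VBLift (eta) in
/-- Restriction to a closed subscheme is the quotient by the image of the ideal. -/
theorem exists_restrict_rightExact (I : X.IdealSheafData) (F : X.Modules) :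
    ∃ (w : kappa I F ≫ eta I.subschemeι F = 0),
      (ShortComplex.mk (kappa I F) (eta I.subschemeι F) w).Exact ∧ Epi (eta I.subschemeι F) := by
  haveI := Groth.L18.AffineCrit.epi_toSubscheme I
  let T := tensorLeftF F
  let S₀ := ShortComplex.mk (ClSub.idealModι I) (ClSub.toSubscheme I) (kernel.condition _)
  haveI : Mono S₀.f := inferInstanceAs (Mono (kernel.ι (ClSub.toSubscheme I)))
  have hS₀ : S₀.ShortExact := { exact := ShortComplex.exact_of_f_is_kernel _ (kernelIsKernel _) }
  haveI : T.IsLeftAdjoint := (Groth.L16.HomSh.tensorHomAdj F).isLeftAdjoint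
  haveI : T.Additive :=
    haveI := preservesBinaryBiproducts_of_preservesBinaryCoproducts T
    Functor.additive_of_preservesBinaryBiproducts _
  have hex : (S₀.map T).Exact := ShortComplex.exact_of_g_is_cokernel _
        (CokernelCofork.mapIsColimit _ hS₀.gIsCokernel T)
  haveI : Epi (S₀.map T).g := T.map_epi (ClSub.toSubscheme I)
  haveI := Groth.L17.ClosedPush.isIso_θ I.subschemeι (Coh.structureModule I.subscheme) F
  haveI : IsIso (Groth.L20.ResDescent.ψ I.subschemeι F) := by
    rw [Groth.L20.ResDescent.ψ]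
    infer_instance
  have w : kappa I F ≫ eta I.subschemeι F = 0 := by
    refine (Category.assoc _ _ _).trans ?_
    rw [← Groth.L12.VBLift.ψ_restrict, ← Category.assoc]
    exact (congrArg (· ≫ Groth.L20.ResDescent.ψ I.subschemeι F) (S₀.map T).zero).trans zero_comp
  let e : S₀.map T ≅ ShortComplex.mk (kappa I F) (eta I.subschemeι F) w :=
    ShortComplex.isoMk (Iso.refl _) (tensorUnitRight F) (asIso (Groth.L20.ResDescent.ψ I.subschemeι F))
      ((Category.id_comp _).trans rfl) (Groth.L12.VBLift.ψ_restrict I.subschemeι F).symm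
  refine ⟨w, ShortComplex.exact_of_iso e hex, ?_⟩
  haveI : Epi (e.hom.τ₂ ≫ eta I.subschemeι F) := by
    rw [show e.hom.τ₂ ≫ eta I.subschemeι F = (S₀.map T).g ≫ e.hom.τ₃ from e.hom.comm₂₃]
    haveI : IsIso e.hom.τ₃ := inferInstanceAs (IsIso (Groth.L20.ResDescent.ψ I.subschemeι F))
    exact epi_comp _ _
  exact epi_of_epi e.hom.τ₂ _

end Groth.L04.KSh
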