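import Groth.Agent.L04.KSh.Div.Twisted
import Groth.Agent.L00.TensorColim
import Groth.Agent.L17.ClosedPush
import Mathlib.CategoryTheory.Abelian.Refinements

/-!
# The cartesian square of twisted divisors
-/

set_option autoImplicit false
set_option linter.style.haveILetI false
set_option backward.isDefEq.respectTransparency false

universe u

open CategoryTheory CategoryTheory.Limits TopologicalSpace AlgebraicGeometry Opposite exteriorPower
open Groth.L18.Frame (rs IsFrame)
open Groth.L18.GenLoc (tens)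
open Groth.L00.Tensor (tensorMap tensorRightF)
open Groth.Agent.L19.IdealInvertible (io)
open Groth.L12.VBLift (eta)

noncomputable section

namespace Groth.L04.KSh

variable {X : Scheme.{u}}

theorem kappa_natural (J : X.IdealSheafData) {M N : X.Modules} (f : M ⟶ N) :
    tensorMap f (𝟙 (ClSub.idealMod J)) ≫ kappa J N = kappa J M ≫ f := by
  refine Groth.L16.HomSh.hom_ext_tens fun W m e => ?_
  rw [comp_app_apply, comp_app_apply, Groth.L16.HomSh.tensorMap_tens, kappa_tens, kappa_tens]
  exact (Scheme.Modules.Hom.app_smul f _ _).symm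

theorem tensorRightF_map_exact (M : X.Modules) {A B C : X.Modules} (f : A ⟶ B) (g : B ⟶ C) (w : f ≫ g = 0)
    (h : (ShortComplex.mk f g w).Exact) [Epi g] :
    ∃ w' : (tensorRightF M).map f ≫ (tensorRightF M).map g = 0,
      (ShortComplex.mk _ _ w').Exact ∧ Epi ((tensorRightF M).map g) := by
  haveI : PreservesFiniteColimits (tensorRightF M) := PreservesColimitsOfSize.preservesFiniteColimits.{u, u} _
  haveI : (tensorRightF M).Additive :=
    haveI := preservesBinaryBiproducts_of_preservesBinaryCoproducts (tensorRightF M)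
    Functor.additive_of_preservesBinaryBiproducts _
  exact ⟨_, h.map_of_epi_of_preservesCokernel (tensorRightF M) ‹Epi g› inferInstance, inferInstance⟩

section Square

variable (J : X.IdealSheafData) {A Z H : X.Modules} (t : A ⟶ Z) (p : Z ⟶ H) (w : t ≫ p = 0)

/-- The restriction to the closed subscheme. -/
abbrev resF : X.Modules ⥤ X.Modules :=
  Scheme.Modules.pullback J.subschemeι ⋙ Scheme.Modules.pushforward J.subschemeι

abbrev etaR (M : X.Modules) : M ⟶ (resF J).obj M := eta J.subschemeι M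

theorem eta_natural {M N : X.Modules} (f : M ⟶ N) :
    f ≫ etaR J N = etaR J M ≫ (resF J).map f :=
  (Scheme.Modules.pullbackPushforwardAdjunction J.subschemeι).unit.naturality f

/-- The map to the fibre product. -/
def toSquare : Z ⟶ Limits.pullback ((resF J).map p) (etaR J H) :=
  pullback.lift (etaR J Z) p (eta_natural J p).symm

include w in
theorem toSquare_zero : (kappa J A ≫ t) ≫ toSquare J p = 0 := by
  obtain ⟨wA, -, -⟩ := exists_restrict_rightExact J A
  refine pullback.hom_ext ?_ ?_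
  · simp only [toSquare, Category.assoc, pullback.lift_fst, zero_comp]
    rw [eta_natural, reassoc_of% wA, zero_comp]
  · simp only [toSquare, Category.assoc, pullback.lift_snd, zero_comp, w, comp_zero]

variable (hex : (ShortComplex.mk t p w).Exact) [Epi p]
include hex

theorem epi_toSquare : Epi (toSquare J p) := by
  haveI := Groth.L17.ClosedPush.preservesColimits_push J.subschemeι
  haveI : PreservesFiniteColimits (Scheme.Modules.pushforward J.subschemeι) :=
    PreservesColimitsOfSize.preservesFiniteColimits.{u, u} _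
  haveI : PreservesColimitsOfSize.{u, u} (Scheme.Modules.pullback J.subschemeι) :=
    (Scheme.Modules.pullbackPushforwardAdjunction J.subschemeι).leftAdjoint_preservesColimits
  haveI : PreservesFiniteColimits (Scheme.Modules.pullback J.subschemeι) :=
    PreservesColimitsOfSize.preservesFiniteColimits.{u, u} _
  haveI : PreservesFiniteColimits (resF J) := comp_preservesFiniteColimits _ _
  haveI : (resF J).Additive :=
    haveI := preservesBinaryBiproducts_of_preservesBinaryCoproducts (resF J)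
    Functor.additive_of_preservesBinaryBiproducts _
  have hR := hex.map_of_epi_of_preservesCokernel (resF J) ‹Epi p› inferInstance
  rw [epi_iff_surjective_up_to_refinements]
  intro B g
  obtain ⟨B₁, s₁, hs₁, z, hz⟩ := surjective_up_to_refinements_of_epi p (g ≫ pullback.snd _ _)
  have ha : (s₁ ≫ g ≫ pullback.fst _ _ - z ≫ etaR J Z) ≫ (resF J).map p = 0 := by
    rw [Preadditive.sub_comp, sub_eq_zero, Category.assoc, Category.assoc, pullback.condition,
      Category.assoc, ← eta_natural]
    simp only [← Category.assoc] at hz ⊢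
    rw [hz]
  obtain ⟨B₂, s₂, hs₂, v, hv⟩ := hR.exact_up_to_refinements _ ha
  obtain ⟨-, -, hepiA⟩ := exists_restrict_rightExact J A
  obtain ⟨B₃, s₃, hs₃, v', hv'⟩ := surjective_up_to_refinements_of_epi (etaR J A) v
  refine ⟨B₃, s₃ ≫ s₂ ≫ s₁, inferInstance, s₃ ≫ s₂ ≫ z + v' ≫ t, ?_⟩
  refine pullback.hom_ext ?_ ?_
  · simp only [toSquare, Category.assoc, pullback.lift_fst, Preadditive.add_comp]
    have e1 : v' ≫ t ≫ etaR J Z =
        s₃ ≫ s₂ ≫ (s₁ ≫ g ≫ pullback.fst _ _ - z ≫ etaR J Z) := by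
      rw [eta_natural, hv]
      show _ = s₃ ≫ v ≫ (resF J).map t
      rw [← reassoc_of% hv']
    rw [e1]
    simp only [Preadditive.comp_sub]
    abel
  · simp only [toSquare, Category.assoc, pullback.lift_snd, Preadditive.add_comp, w, comp_zero, add_zero]
    rw [hz]

theorem exact_toSquare [Mono (kappa J H)] :
    (ShortComplex.mk (kappa J A ≫ t) (toSquare J p) (toSquare_zero J t p w)).Exact := by
  obtain ⟨wZ, hexZ, -⟩ := exists_restrict_rightExact J Z
  obtain ⟨wJ, hexJ, -⟩ := tensorRightF_map_exact (ClSub.idealMod J) t p w hex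
  rw [ShortComplex.exact_iff_exact_up_to_refinements]
  intro B (g : B ⟶ Z) (hg : g ≫ toSquare J p = 0)
  have h1 : g ≫ etaR J Z = 0 := by
    simpa [toSquare] using congrArg (fun k => k ≫ pullback.fst _ _) hg
  have h2 : g ≫ p = 0 := by
    simpa [toSquare] using congrArg (fun k => k ≫ pullback.snd _ _) hg
  obtain ⟨B₁, s₁, hs₁, a, ha⟩ := hexZ.exact_up_to_refinements g h1
  have h3 : a ≫ (tensorRightF (ClSub.idealMod J)).map p = 0 := by
    rw [← cancel_mono (kappa J H), zero_comp, Category.assoc]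
    show a ≫ tensorMap p (𝟙 _) ≫ kappa J H = 0
    rw [kappa_natural, ← Category.assoc]
    show (a ≫ kappa J Z) ≫ p = 0
    rw [← ha, Category.assoc, h2, comp_zero]
  obtain ⟨B₂, s₂, hs₂, b, hb⟩ := hexJ.exact_up_to_refinements a h3
  refine ⟨B₂, s₂ ≫ s₁, inferInstance, b, ?_⟩
  show (s₂ ≫ s₁) ≫ g = b ≫ kappa J A ≫ t
  rw [← kappa_natural]
  show _ = b ≫ (tensorRightF (ClSub.idealMod J)).map t ≫ kappa J Z
  rw [← reassoc_of% hb, Category.assoc, ha]

end Square

variable {n : ℕ} {IY : Fin n → X.IdealSheafData} {ID : X.IdealSheafData}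
  (C : KoszSh.Cx (∐ fun i => ClSub.idealMod (IY i)) (sumι IY))
  (C' : KoszSh.Cx (∐ fun i => ClSub.idealMod (IY i * ID)) (sumι fun i => IY i * ID))

theorem nonempty_homology_twisted (hY : ∀ i, BlowUp.IsEffCartierIdeal (IY i))
    (hD : BlowUp.IsEffCartierIdeal ID) (q : ℕ)
    (hreg : ∀ (U : X.affineOpens) (x : Γ(X, U.1)), x ∈ nonZeroDivisors Γ(X, U.1) → ID.ideal U = Ideal.span {x} →
      IsSMulRegular Γ(C.K.homology q, U.1) x) :
    Nonempty (C'.K.homology q ≅ CohB1.tensorMod
      (Limits.pullback ((resF ID).map (C.K.homologyπ q)) (eta ID.subschemeι (C.K.homology q)))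
      (CohB1.tensorPow (ClSub.idealMod ID) q)) := by
  obtain ⟨ν, hν⟩ := exists_iso_cycles_twisted C C' hY hD q
  set t := C.K.toCycles (q + 1) q
  set p := C.K.homologyπ q
  have hprev : (ComplexShape.down ℕ).prev q = q + 1 := by simp
  have hc := C.K.homologyIsCokernel (q + 1) q hprev
  have hc' := C'.K.homologyIsCokernel (q + 1) q hprev
  have w : t ≫ p = 0 := C.K.toCycles_comp_homologyπ _ _
  have hex : (ShortComplex.mk t p w).Exact := ShortComplex.exact_of_g_is_cokernel _ hc
  haveI : Mono (kappa ID (C.K.homology q)) := Preadditive.mono_of_cancel_zero _ fun {P} g hg =>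
    hom_ext_cover fun x W hx => by
      obtain ⟨F, hxU, hUW⟩ := exists_frames IY ID hY hD x W hx
      refine ⟨F.U, hxU, hUW, fun m => ?_⟩
      obtain ⟨h, hh⟩ := (bijective_tmul (M := C.K.homology q) F.heD).2 (g.app F.U.1 m)
      have h0 : (kappa ID (C.K.homology q)).app F.U.1 (g.app F.U.1 m) = 0 := by
        rw [← comp_app_apply, hg, zero_app]
      rw [← hh] at h0
      replace h0 := (kappa_tens ID (C.K.homology q) F.U.1 h F.eD).symm.trans h0
      have h1 : h = 0 := hreg F.U F.x (io_mem_nzd ID F.heD) (ideal_eq_span ID F.heD)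
        (by show F.x • h = F.x • 0; rw [smul_zero]; exact h0)
      rw [zero_app, ← hh, h1]
      exact Groth.L19.ProjBdl.tens_zero_left _
  haveI := epi_toSquare ID t p w hex
  obtain ⟨w₂, hex₂, hepi₂⟩ := tensorRightF_map_exact (CohB1.tensorPow (ClSub.idealMod ID) q) _ _ _
    (exact_toSquare ID t p w hex)
  let α := (tensorRightF (CohB1.tensorPow (ClSub.idealMod ID) q)).map (kappa ID (C.K.X (q + 1)) ≫ t)
  let ρ := (tensorRightF (CohB1.tensorPow (ClSub.idealMod ID) q)).map (toSquare ID p)
  let T : X.Modules := CohB1.tensorPow (ClSub.idealMod ID) q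
  have key : ∀ (F : Frames IY ID) (v' : Γ(C'.K.X (q + 1), F.U.1)) (v : Γ(C.K.X (q + 1), F.U.1)),
      (∀ T' : Γ(C.K.X (q + 1), F.U.1), ((phi C C').f (q + 1)).app F.U.1 v' = T' → T' = F.x ^ (q + 1) • v) →
      (C'.K.toCycles (q + 1) q).app F.U.1 v' = ν.hom.app F.U.1
        (tens (C.K.cycles q) T F.U.1 (t.app F.U.1 (F.x • v))
          (KoszTw.tprod (ClSub.idealMod ID) q F.U.1 fun _ => F.eD)) := by
    intro F v' v hv
    haveI := mono_phi C C' hY hD q
    refine app_injective_of_mono (C'.K.iCycles q) F.U.1 (app_injective_of_mono ((phi C C').f q) F.U.1 ?_)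
    rw [hν, ← comp_app_apply (C'.K.toCycles (q + 1) q), C'.K.toCycles_i, ← comp_app_apply, ← comp_app_apply]
    simp only [t, HomologicalComplex.toCycles_i]
    rw [← (phi C C').comm, comp_app_apply, hv _ rfl, Scheme.Modules.Hom.app_smul,
      Scheme.Modules.Hom.app_smul, smul_smul, pow_succ]
  have h1 : C'.K.toCycles (q + 1) q ≫ ν.inv ≫ ρ = 0 := hom_ext_cover fun x W hx => by
    obtain ⟨F, hxU, hUW⟩ := exists_frames IY ID hY hD x W hx
    refine ⟨F.U, hxU, hUW, fun v' => ?_⟩
    obtain ⟨S, hS⟩ := phi_app C C' hY hD F (q + 1)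
    rw [zero_app, comp_app_apply, key F v' (S v') (fun T' h => h.symm.trans (hS v')), comp_app_apply,
      ← comp_app_apply ν.hom, ν.hom_inv_id]
    show (tensorMap (toSquare ID p) (𝟙 T)).app F.U.1 (tens (C.K.cycles q) T F.U.1 (t.app F.U.1 (F.x • S v')) _) = 0
    rw [Groth.L16.HomSh.tensorMap_tens]
    have h0 : (toSquare ID p).app F.U.1 (t.app F.U.1 (F.x • S v')) = 0 := by
      rw [← kappa_tens, ← comp_app_apply, ← comp_app_apply, ← Category.assoc, toSquare_zero ID t p w, zero_app]
    rw [h0]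
    exact Groth.L19.ProjBdl.tens_zero_left _
  have h2 : α ≫ ν.hom ≫ C'.K.homologyπ q = 0 := hom_ext_cover fun x W hx => by
    obtain ⟨F, hxU, hUW⟩ := exists_frames IY ID hY hD x W hx
    refine ⟨F.U, hxU, hUW, fun z => ?_⟩
    obtain ⟨a, rfl⟩ := (bijective_tmul (M := CohB1.tensorMod (C.K.X (q + 1)) (ClSub.idealMod ID))
      (isFrame_tprod F.heD q)).2 z
    obtain ⟨v, rfl⟩ := (bijective_tmul (M := C.K.X (q + 1)) F.heD).2 a
    obtain ⟨S, hS⟩ := phi_app C C' hY hD F (q + 1)
    have hk := key F (S.symm v) v (fun T' h => by rw [← h, hS, S.apply_symm_apply])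
    have e : α.app F.U.1 (tens _ T F.U.1 (tens (C.K.X (q + 1)) (ClSub.idealMod ID) F.U.1 v F.eD)
        (KoszTw.tprod (ClSub.idealMod ID) q F.U.1 fun _ => F.eD)) =
        tens (C.K.cycles q) T F.U.1 (t.app F.U.1 (F.x • v))
          (KoszTw.tprod (ClSub.idealMod ID) q F.U.1 fun _ => F.eD) := by
      refine (Groth.L16.HomSh.tensorMap_tens (kappa ID (C.K.X (q + 1)) ≫ t) (𝟙 T) F.U.1 _ _).trans ?_
      rw [comp_app_apply, kappa_tens]
      rfl
    rw [zero_app, comp_app_apply]
    refine (congrArg _ e).trans ?_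
    rw [comp_app_apply]
    refine (congrArg ((C'.K.homologyπ q).app F.U.1) hk.symm).trans ?_
    rw [← comp_app_apply, C'.K.toCycles_comp_homologyπ, zero_app]
  let g : C'.K.homology q ⟶ _ := hc'.desc (CokernelCofork.ofπ (ν.inv ≫ ρ) h1)
  have hg : C'.K.homologyπ q ≫ g = ν.inv ≫ ρ := hc'.fac _ WalkingParallelPair.one
  let f := hex₂.desc (ν.hom ≫ C'.K.homologyπ q) h2
  have hf : ρ ≫ f = ν.hom ≫ C'.K.homologyπ q := hex₂.g_desc _ _
  refine ⟨⟨g, f, ?_, ?_⟩⟩
  · rw [← cancel_epi (C'.K.homologyπ q), ← Category.assoc, hg, Category.assoc, hf, ν.inv_hom_id_assoc,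
      Category.comp_id]
  · haveI : Epi ρ := hepi₂
    rw [← cancel_epi ρ, ← Category.assoc, hf, Category.assoc, hg, ν.hom_inv_id_assoc]
    exact (Category.comp_id _).symm

end Groth.L04.KSh
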