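import Groth.Agent.L04.KSh.RingLevel

/-!
# Koszul complexes of a constant family: cycles and boundaries
-/

set_option autoImplicit false

universe u

open exteriorPower

noncomputable section

namespace Groth.L04.KSh

variable {R : Type*} [CommRing R] {M N : Type*} [AddCommGroup M] [Module R M] [AddCommGroup N] [Module R N]

theorem coe_map (f : M →ₗ[R] N) (p : ℕ) (z : ⋀[R]^p M) :
    (exteriorPower.map p f z : ExteriorAlgebra R N) = ExteriorAlgebra.map f (z : ExteriorAlgebra R M) := by
  have : (Submodule.subtype _).comp (exteriorPower.map p f) =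
      (ExteriorAlgebra.map f).toLinearMap.comp (Submodule.subtype _) := by
    refine exteriorPower.linearMap_ext ?_
    ext e
    simp [ExteriorAlgebra.map_apply_ιMulti]
  exact LinearMap.congr_fun this z

theorem map_mem_im (f : M →ₗ[R] N) (p : ℕ) (z : ⋀[R]^p M) :
    (exteriorPower.map p f z : ExteriorAlgebra R N) ∈ im (LinearMap.range f) ^ p := by
  rw [coe_map]
  have : (im (LinearMap.range f) : Submodule R (ExteriorAlgebra R N)) =
      Submodule.map (ExteriorAlgebra.map f).toLinearMap (LinearMap.range (ExteriorAlgebra.ι R)) := by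
    rw [im, LinearMap.range_eq_map f, LinearMap.range_eq_map (ExteriorAlgebra.ι R), ← Submodule.map_comp,
      ← Submodule.map_comp]
    congr 1
    ext m
    simp
  rw [this, ← Submodule.map_pow]
  exact Submodule.mem_map_of_mem z.2

/-- The degree-`q` data of a form `φ` which is `y` times a form `φ₁` split by `ψ`. -/
structure Contraction (R : Type*) [CommRing R] (N M : Type*) [AddCommGroup M] [Module R M] [AddCommGroup N]
    [Module R N] (ψ : N →ₗ[R] M) (φ : M →ₗ[R] R) (y : R) where
  /-- the left inverse -/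
  P : M →ₗ[R] N
  /-- the form with unit values -/
  φ₁ : M →ₗ[R] R
  /-- the split vector -/
  m₀ : M
  hP : ∀ n, P (ψ n) = n
  hφ : φ = y • φ₁
  hψ : ∀ n, φ₁ (ψ n) = 0
  hm₀ : φ₁ m₀ = 1
  hdec : ∀ m, m = ψ (P m) + φ₁ m • m₀

variable {ψ : N →ₗ[R] M} {φ : M →ₗ[R] R} {y : R} (c : Contraction R N M ψ φ y)
include c

theorem Contraction.map_injective (p : ℕ) : Function.Injective (exteriorPower.map p ψ) :=
  exteriorPower.map_injective c.P (by ext n; exact c.hP n)

theorem Contraction.top_eq : LinearMap.range ψ ⊔ Submodule.span R {c.m₀} = ⊤ := by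
  refine Submodule.eq_top_iff'.2 fun m => ?_
  rw [c.hdec m]
  exact add_mem (Submodule.mem_sup_left ⟨_, rfl⟩)
    (Submodule.mem_sup_right (Submodule.smul_mem _ _ (Submodule.mem_span_singleton_self _)))

theorem Contraction.contr_map (p : ℕ) (w : ⋀[R]^p N) :
    contr c.φ₁ (exteriorPower.map p ψ w : ExteriorAlgebra R M) = 0 :=
  contr_eq_zero_of_vanish c.φ₁ _ (by rintro _ ⟨n, rfl⟩; exact c.hψ n) p (map_mem_im ψ p w)

theorem Contraction.exists_of_contr_eq_zero : ∀ (p : ℕ) (z : ⋀[R]^p M),
    contr c.φ₁ (z : ExteriorAlgebra R M) = 0 → ∃ w, exteriorPower.map p ψ w = z := by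
  intro p z hz
  refine ⟨exteriorPower.map p c.P z, Subtype.ext ?_⟩
  have hfix : (z : ExteriorAlgebra R M) ∈ im (LinearMap.range ψ) ^ p := by
    cases p with
    | zero => exact (pow_zero (im (LinearMap.range ψ))).symm ▸ (by simpa using z.2)
    | succ p =>
      have hz' : (z : ExteriorAlgebra R M) ∈
          im (LinearMap.range ψ ⊔ Submodule.span R {c.m₀}) ^ (p + 1) := by
        rw [c.top_eq, im, Submodule.map_top]
        exact z.2
      obtain ⟨u, hu, v, hv, huv⟩ := exists_split _ c.m₀ p hz'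
      have hS : ∀ m ∈ LinearMap.range ψ, c.φ₁ m = 0 := by rintro _ ⟨n, rfl⟩; exact c.hψ n
      rw [huv, map_add, contr_eq_zero_of_vanish c.φ₁ _ hS (p + 1) hu, contr_ι_mul, c.hm₀,
        contr_eq_zero_of_vanish c.φ₁ _ hS p hv, mul_zero, sub_zero, one_smul, zero_add] at hz
      rw [huv, hz, mul_zero, add_zero]
      exact hu
  rw [coe_map, coe_map]
  have h2 := map_eq_self_of_fixed (ψ.comp c.P) (LinearMap.range ψ)
    (by rintro _ ⟨n, rfl⟩; simp [c.hP]) p hfix
  rw [← ExteriorAlgebra.map_comp_map] at h2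
  exact h2

omit c in
theorem coe_d (φ : M →ₗ[R] R) (p : ℕ) (d : ⋀[R]^(p + 1) M →ₗ[R] ⋀[R]^p M)
    (hd : ∀ e, d (ιMulti R (p + 1) e) = KoszSh.dGen φ p e) (w : ⋀[R]^(p + 1) M) :
    (d w : ExteriorAlgebra R M) = contr φ (w : ExteriorAlgebra R M) := by
  have : (Submodule.subtype _).comp d = (contr φ).comp (Submodule.subtype _) := by
    refine exteriorPower.linearMap_ext ?_
    ext e
    show (d (ιMulti R (p + 1) e) : ExteriorAlgebra R M) = contr φ _
    rw [hd]
    exact (contr_ιMulti φ p e).symm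
  exact LinearMap.congr_fun this w

theorem Contraction.contr_eq (z : ExteriorAlgebra R M) : contr φ z = y • contr c.φ₁ z := by
  refine (congrArg (fun f => contr f z) c.hφ).trans ?_
  simp [contr, map_smul]

/-- Cycles of a form with values `y` for `y` regular. -/
theorem Contraction.cycles (p : ℕ) (d : ⋀[R]^(p + 1) M →ₗ[R] ⋀[R]^p M)
    (hd : ∀ e, d (ιMulti R (p + 1) e) = KoszSh.dGen φ p e) (hy : IsSMulRegular (⋀[R]^p M) y)
    (z : ⋀[R]^(p + 1) M) : d z = 0 ↔ ∃ w, exteriorPower.map (p + 1) ψ w = z := by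
  constructor
  · intro hz
    refine c.exists_of_contr_eq_zero _ z ?_
    let u : ⋀[R]^p M := ⟨contr c.φ₁ (z : ExteriorAlgebra R M), contr_mem c.φ₁ ⊤ p (by
      rw [im, Submodule.map_top]; exact z.2) |> fun h => by rwa [im, Submodule.map_top] at h⟩
    have : y • u = y • (0 : ⋀[R]^p M) := by
      refine Subtype.ext ?_
      rw [smul_zero]
      show y • contr c.φ₁ (z : ExteriorAlgebra R M) = 0
      rw [← c.contr_eq, ← coe_d φ p d hd, hz]
      rfl
    exact congrArg Subtype.val (hy this)
  · rintro ⟨w, rfl⟩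
    refine Subtype.ext ?_
    rw [coe_d φ p d hd, c.contr_eq, c.contr_map, smul_zero]
    rfl

/-- Boundaries of a form with values `y`. -/
theorem Contraction.boundaries (p : ℕ) (d : ⋀[R]^(p + 1) M →ₗ[R] ⋀[R]^p M)
    (hd : ∀ e, d (ιMulti R (p + 1) e) = KoszSh.dGen φ p e) (z : ⋀[R]^p M) :
    (∃ v, d v = z) ↔ ∃ w, y • exteriorPower.map p ψ w = z := by
  constructor
  · rintro ⟨v, rfl⟩
    let u : ⋀[R]^p M := ⟨contr c.φ₁ (v : ExteriorAlgebra R M), contr_mem c.φ₁ ⊤ p (by
      rw [im, Submodule.map_top]; exact v.2) |> fun h => by rwa [im, Submodule.map_top] at h⟩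
    obtain ⟨w, hw⟩ := c.exists_of_contr_eq_zero p u (by
      exact CliffordAlgebra.contractLeft_contractLeft c.φ₁ _)
    refine ⟨w, Subtype.ext ?_⟩
    rw [hw, coe_d φ p d hd, c.contr_eq]
    rfl
  · rintro ⟨w, rfl⟩
    let v : ⋀[R]^(p + 1) M := ⟨ExteriorAlgebra.ι R c.m₀ * (exteriorPower.map p ψ w : ExteriorAlgebra R M), by
      show _ ∈ LinearMap.range (ExteriorAlgebra.ι R) ^ (p + 1)
      rw [pow_succ']
      exact Submodule.mul_mem_mul (LinearMap.mem_range_self _ _) (exteriorPower.map p ψ w).2⟩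
    refine ⟨v, Subtype.ext ?_⟩
    rw [coe_d φ p d hd, c.contr_eq, contr_ι_mul, c.hm₀, c.contr_map, mul_zero, sub_zero, one_smul]
    rfl

omit c in
/-- The contraction for a basis all of whose values are `y`. -/
def Contraction.ofBasis {m : ℕ} (b : Module.Basis (Fin (m + 1)) R M) (bN : Module.Basis (Fin m) R N)
    (φ : M →ₗ[R] R) (y : R) (hφ : ∀ k, φ (b k) = y) :
    Contraction R N M (bN.constr R fun j => b j.succ - b 0) φ y where
  P := b.constr R (Fin.cons 0 fun j => bN j)
  φ₁ := b.constr R fun _ => 1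
  m₀ := b 0
  hP n := by
    have : (b.constr R (Fin.cons 0 fun j => bN j)).comp (bN.constr R fun j => b j.succ - b 0) = LinearMap.id := by
      refine bN.ext fun j => ?_
      simp only [LinearMap.comp_apply, Module.Basis.constr_basis, map_sub, LinearMap.id_apply, Fin.cons_succ,
        Fin.cons_zero, sub_zero]
    exact LinearMap.congr_fun this n
  hφ := b.ext fun k => by simp [hφ]
  hψ n := by
    have : (b.constr R fun _ => (1 : R)).comp (bN.constr R fun j => b j.succ - b 0) = 0 := by
      refine bN.ext fun j => ?_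
      simp
    exact LinearMap.congr_fun this n
  hm₀ := by simp
  hdec m := by
    have : LinearMap.id = (bN.constr R fun j => b j.succ - b 0).comp (b.constr R (Fin.cons 0 fun j => bN j)) +
        (b.constr R fun _ => (1 : R)).smulRight (b 0) := by
      refine b.ext fun k => ?_
      refine Fin.cases ?_ (fun j => ?_) k <;> simp
    exact LinearMap.congr_fun this m

end Groth.L04.KSh
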