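import Groth.Agent.L04.KSh.Div.Cycles
import Groth.Agent.L29.DCoh.PullTensor

/-!
# Homology of copies of a divisor
-/

set_option autoImplicit false
set_option linter.style.haveILetI false
set_option backward.isDefEq.respectTransparency false

universe u

open CategoryTheory CategoryTheory.Limits TopologicalSpace AlgebraicGeometry Opposite exteriorPower
open Groth.L18.Frame (rs IsFrame)
open Groth.L18.GenLoc (tens)
open Groth.Agent.L19.IdealInvertible (io)
open Groth.L00.Tensor (tensorIso tensorComm tensorAssoc)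
open Groth.L12.VBLift (eta)

noncomputable section

namespace Groth.L04.KSh

variable {X : Scheme.{u}}

/-- Restriction to a closed subscheme commutes with tensor products. -/
theorem nonempty_restrict_tensor (J : X.IdealSheafData) (A N : X.Modules) :
    Nonempty ((Scheme.Modules.pullback J.subschemeι ⋙ Scheme.Modules.pushforward J.subschemeι).obj
        (CohB1.tensorMod A N) ≅
      CohB1.tensorMod ((Scheme.Modules.pushforward J.subschemeι).obj
        ((Scheme.Modules.pullback J.subschemeι).obj A)) N) := by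
  haveI := Groth.L17.ClosedPush.isIso_θ J.subschemeι ((Scheme.Modules.pullback J.subschemeι).obj A) N
  exact ⟨(Scheme.Modules.pushforward J.subschemeι).mapIso
      ((Groth.L29.DC.PullTensor.pullTensor J.subschemeι A N).symm ≪≫ tensorComm _ _) ≪≫
    (asIso (Groth.L17.ClosedPush.θ J.subschemeι ((Scheme.Modules.pullback J.subschemeι).obj A) N)).symm ≪≫
    tensorComm _ _⟩

variable (I : X.IdealSheafData) {n q : ℕ}

theorem nonempty_homology_iso_aux (hI : BlowUp.IsEffCartierIdeal I)
    (C : KoszSh.Cx (copies I n) (copiesDesc I n)) (hn : 1 ≤ n) {M : X.Modules} (σ : M ≅ C.K.cycles q)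
    (hσ : ∀ (U : X.affineOpens) (e : Γ(ClSub.idealMod I, U.1)), IsFrame _ U.1 e →
      (∀ m : Γ(M, U.1), ∃ b, C.loc q U ((C.K.iCycles q).app U.1 (σ.hom.app U.1 m)) =
          exteriorPower.map q (psi I n U.1 e) b) ∧
        ∀ b, ∃ m : Γ(M, U.1), C.loc q U ((C.K.iCycles q).app U.1 (σ.hom.app U.1 m)) =
          exteriorPower.map q (psi I n U.1 e) b) :
    Nonempty ((Scheme.Modules.pushforward I.subschemeι).obj ((Scheme.Modules.pullback I.subschemeι).obj M) ≅
      C.K.homology q) := by
  obtain ⟨w, hex, hepi⟩ := exists_restrict_rightExact I M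
  have hprev : (ComplexShape.down ℕ).prev q = q + 1 := by simp
  have hval : ∀ (U : X.affineOpens) (r : Γ(X, U.1)) (m : Γ(M, U.1)),
      C.loc q U ((C.K.iCycles q).app U.1 (σ.hom.app U.1 (r • m))) =
        r • C.loc q U ((C.K.iCycles q).app U.1 (σ.hom.app U.1 m)) := fun U r m => by
    rw [Scheme.Modules.Hom.app_smul, Scheme.Modules.Hom.app_smul, map_smul]
  have h1 : C.K.toCycles (q + 1) q ≫ σ.inv ≫ eta I.subschemeι M = 0 := by
    refine hom_ext_cover fun x W hx => ?_
    obtain ⟨⟨U, e, he⟩, hxU, hUW⟩ := exists_goodOpen hI x W hx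
    refine ⟨U, hxU, hUW, fun v => ?_⟩
    obtain ⟨b, hb⟩ := (boundaries_local C hn q U he ((C.K.d (q + 1) q).app U.1 v)).1 ⟨v, rfl⟩
    obtain ⟨m, hm⟩ := (hσ U e he).2 b
    have hv : (C.K.toCycles (q + 1) q).app U.1 v = σ.hom.app U.1 (io I U.1 e • m) := by
      refine app_injective_of_mono (C.K.iCycles q) U.1 ((C.loc q U).injective ?_)
      rw [hval, hm, hb, ← comp_app_apply, C.K.toCycles_i]
    rw [zero_app, comp_app_apply, hv, comp_app_apply, ← comp_app_apply σ.hom, σ.hom_inv_id]
    show (eta I.subschemeι M).app U.1 (io I U.1 e • m) = 0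
    rw [← kappa_tens, ← comp_app_apply, w, zero_app]
  have h2 : kappa I M ≫ σ.hom ≫ C.K.homologyπ q = 0 := by
    refine hom_ext_cover fun x W hx => ?_
    obtain ⟨⟨U, e, he⟩, hxU, hUW⟩ := exists_goodOpen hI x W hx
    refine ⟨U, hxU, hUW, fun z => ?_⟩
    obtain ⟨m, rfl⟩ := (bijective_tmul (M := M) he).2 z
    obtain ⟨b, hb⟩ := (hσ U e he).1 m
    rw [zero_app, comp_app_apply, comp_app_apply]
    refine (congrArg (fun t => (C.K.homologyπ q).app U.1 (σ.hom.app U.1 t)) (kappa_tens I M U.1 m e)).trans ?_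
    obtain ⟨v, hv⟩ := (boundaries_local C hn q U he
      ((C.K.iCycles q).app U.1 (σ.hom.app U.1 (io I U.1 e • m)))).2 ⟨b, by rw [hval, hb]⟩
    have : (C.K.toCycles (q + 1) q).app U.1 v = σ.hom.app U.1 (io I U.1 e • m) := by
      refine app_injective_of_mono (C.K.iCycles q) U.1 ?_
      rw [← hv, ← comp_app_apply, C.K.toCycles_i]
    rw [← this, ← comp_app_apply, C.K.toCycles_comp_homologyπ, zero_app]
  have hc := C.K.homologyIsCokernel (q + 1) q hprev
  let g : C.K.homology q ⟶ _ := hc.desc (CokernelCofork.ofπ (σ.inv ≫ eta I.subschemeι M) h1)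
  have hg : C.K.homologyπ q ≫ g = σ.inv ≫ eta I.subschemeι M := hc.fac _ WalkingParallelPair.one
  let f := hex.desc (σ.hom ≫ C.K.homologyπ q) h2
  have hf : eta I.subschemeι M ≫ f = σ.hom ≫ C.K.homologyπ q := hex.g_desc _ _
  refine ⟨⟨f, g, ?_, ?_⟩⟩
  · rw [← cancel_epi (eta I.subschemeι M), ← Category.assoc, hf, Category.assoc, hg, σ.hom_inv_id_assoc,
      Category.comp_id]
  · rw [← cancel_epi (C.K.homologyπ q), ← Category.assoc, hg, Category.assoc, hf, σ.inv_hom_id_assoc,
      Category.comp_id]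

theorem nonempty_homology_iso (hI : BlowUp.IsEffCartierIdeal I) {L : X.Modules}
    (C : KoszSh.Cx (copies I n) (copiesDesc I n)) (hn : 1 ≤ n)
    (hL : ExtPow.IsExtPow q (FlatMod.freeMod X (n - 1)) L) :
    Nonempty ((Scheme.Modules.pushforward I.subschemeι).obj ((Scheme.Modules.pullback I.subschemeι).obj
        (CohB1.tensorMod L (CohB1.tensorPow (ClSub.idealMod I) q))) ≅ C.K.homology q) := by
  obtain ⟨φL, hφL⟩ := hL
  obtain ⟨σ, hσ⟩ := exists_iso_cycles φL hφL C hI
  refine nonempty_homology_iso_aux I hI C hn σ fun U e he => ⟨fun m => ?_, fun b => ?_⟩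
  · obtain ⟨a, rfl⟩ := (bijective_tmul (M := L) (isFrame_tprod he q)).2 m
    exact ⟨φL U a, hσ U e he a⟩
  · exact ⟨_, (hσ U e he ((φL U).symm b)).trans (congrArg _ ((φL U).apply_symm_apply b))⟩

end Groth.L04.KSh
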