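import Groth.Agent.L04.KSh.Div.Basic
import Groth.Agent.L04.KSh.Div.Contract

/-!
# The Koszul complex of several copies of one divisor
-/

set_option autoImplicit false
set_option linter.style.haveILetI false
set_option backward.isDefEq.respectTransparency false

universe u

open CategoryTheory CategoryTheory.Limits TopologicalSpace AlgebraicGeometry Opposite exteriorPower
open Groth.L18.Frame (rs IsFrame)
open Groth.L18.GenLoc (tens)
open Groth.Agent.L19.IdealInvertible (io io_rs io_smul io_inj)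

noncomputable section

namespace Groth.L04.KSh

variable {X : Scheme.{u}} (I : X.IdealSheafData) (n : ℕ)

/-- The sum of copies of an ideal module. -/
abbrev copies : X.Modules := ∐ fun _ : Fin n => ClSub.idealMod I

/-- Its cosection. -/
abbrev copiesDesc : copies I n ⟶ Coh.structureModule X :=
  Sigma.desc fun _ : Fin n => ClSub.idealModι I

/-- The standard basis of sections of a free module. -/
def freeBasis (m : ℕ) (U : X.Opens) : Module.Basis (Fin m) Γ(X, U) Γ(FlatMod.freeMod X m, U) :=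
  sigmaBasis (fun _ : Fin m => Coh.structureModule X) U (fun _ => (1 : Γ(X, U))) fun _ => isFrame_one U

theorem freeBasis_res (m : ℕ) {U V : X.Opens} (h : V ≤ U) (j : Fin m) :
    rs (FlatMod.freeMod X m) h (freeBasis m U j) = freeBasis m V j := by
  have e1 : ∀ W : X.Opens, freeBasis m W j =
      (Sigma.ι (fun _ : Fin m => Coh.structureModule X) j).app W (1 : Γ(X, W)) := fun W =>
    sigmaBasis_apply _ W _ _ j
  rw [e1, e1]
  refine (rs_app _ h _).symm.trans (congrArg _ ?_)
  exact map_one (X.presheaf.map (homOfLE h).op).hom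

/-- Differences of copies of a section of the ideal module. -/
def psi (U : X.Opens) (l : Γ(ClSub.idealMod I, U)) :
    Γ(FlatMod.freeMod X (n - 1), U) →ₗ[Γ(X, U)] Γ(copies I n, U) :=
  (freeBasis (n - 1) U).constr Γ(X, U) fun j =>
    (Sigma.ι (fun _ : Fin n => ClSub.idealMod I) ⟨j.1 + 1, by omega⟩).app U l -
      (Sigma.ι (fun _ : Fin n => ClSub.idealMod I) ⟨0, by have := j.2; omega⟩).app U l

theorem psi_smul (U : X.Opens) (r : Γ(X, U)) (l : Γ(ClSub.idealMod I, U)) :
    psi I n U (r • l) = r • psi I n U l := by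
  refine (freeBasis (n - 1) U).ext fun j => ?_
  simp [psi, Scheme.Modules.Hom.app_smul, smul_sub]

theorem psi_res {U V : X.Opens} (h : V ≤ U) (l : Γ(ClSub.idealMod I, U))
    (a : Γ(FlatMod.freeMod X (n - 1), U)) :
    rs (copies I n) h (psi I n U l a) = psi I n V (rs _ h l) (rs _ h a) := by
  have hmem : a ∈ Submodule.span Γ(X, U) (Set.range (freeBasis (n - 1) U)) := by
    rw [Module.Basis.span_eq]; trivial
  induction hmem using Submodule.span_induction with
  | mem v hv =>
    obtain ⟨j, rfl⟩ := hv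
    rw [freeBasis_res]
    simp only [psi, Module.Basis.constr_basis, rs_app]
    exact map_sub ((copies I n).presheaf.map (homOfLE h).op).hom _ _
  | zero => simp [rs]
  | add x y _ _ hx hy =>
    simp only [rs, map_add] at hx hy ⊢
    rw [hx, hy]
  | smul r x _ hx => simp only [map_smul, Groth.L18.Frame.rs_smul, hx]

variable {I n}

theorem secForm_copies (U : X.Opens) (e : Γ(ClSub.idealMod I, U)) (k : Fin n) :
    KoszSh.secForm (copiesDesc I n) U ((Sigma.ι (fun _ : Fin n => ClSub.idealMod I) k).app U e) = io I U e := by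
  show OmegaSh.fnSect X U _ = _
  rw [← comp_app_apply, Sigma.ι_desc]
  rfl

theorem io_mem_nonZeroDivisors {U : X.Opens} {e : Γ(ClSub.idealMod I, U)} (he : IsFrame _ U e) (a : Γ(X, U))
    (h : io I U e * a = 0) : a = 0 := by
  refine he.inj le_rfl (io_inj I U ?_)
  simp only [Groth.L18.Frame.rs_self, io_smul, zero_mul]
  rw [mul_comm, h]

variable {q : ℕ} {L : X.Modules}
  (φL : ∀ U : X.affineOpens, (L.val.obj (op U.1)) ≃ₗ[Γ(X, U.1)]
    ↥(⋀[Γ(X, U.1)]^q ((FlatMod.freeMod X (n - 1)).val.obj (op U.1))))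
  (hφL : ∀ (U V : X.affineOpens) (h : V.1 ≤ U.1) (e : Fin q → (FlatMod.freeMod X (n - 1)).val.obj (op U.1)),
      L.val.map (homOfLE h).op ((φL U).symm (exteriorPower.ιMulti _ q e)) =
        (φL V).symm (exteriorPower.ιMulti _ q (fun j => (FlatMod.freeMod X (n - 1)).val.map (homOfLE h).op (e j))))
  (C : KoszSh.Cx (copies I n) (copiesDesc I n))

/-- The terms of a power of a frame. -/
abbrev powFrame (U : X.Opens) (e : Γ(ClSub.idealMod I, U)) (q : ℕ) :
    Γ(CohB1.tensorPow (ClSub.idealMod I) q, U) :=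
  KoszTw.tprod (ClSub.idealMod I) q U fun _ => e

/-- The comparison map on a small affine open. -/
def muLoc (U : X.affineOpens) {e : Γ(ClSub.idealMod I, U.1)} (he : IsFrame _ U.1 e) :
    Γ(CohB1.tensorMod L (CohB1.tensorPow (ClSub.idealMod I) q), U.1) →ₗ[Γ(X, U.1)] Γ(C.K.X q, U.1) :=
  (C.loc q U).symm.toLinearMap ∘ₗ exteriorPower.map q (psi I n U.1 e) ∘ₗ
    ((φL U).toLinearMap : Γ(L, U.1) →ₗ[Γ(X, U.1)] _) ∘ₗ (twistₗ L (isFrame_tprod he q)).symm.toLinearMap

theorem muLoc_tens (U : X.affineOpens) {e : Γ(ClSub.idealMod I, U.1)} (he : IsFrame _ U.1 e) (w : Γ(L, U.1)) :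
    muLoc φL C U he (tens L _ U.1 w (powFrame U.1 e q)) =
      (C.loc q U).symm (exteriorPower.map q (psi I n U.1 e) (φL U w)) := by
  have h : (twistₗ L (isFrame_tprod he q)).symm (tens L _ U.1 w (powFrame U.1 e q)) = w :=
    (twistₗ L (isFrame_tprod he q)).symm_apply_apply w
  simp only [muLoc, LinearMap.comp_apply, LinearEquiv.coe_coe]
  exact congrArg (fun t => (C.loc q U).symm (exteriorPower.map q (psi I n U.1 e) (φL U t))) h

theorem tprod_smul (U : X.Opens) (e : Γ(ClSub.idealMod I, U)) : ∀ (q : ℕ) (r : Fin q → Γ(X, U)),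
    KoszTw.tprod (ClSub.idealMod I) q U (fun i => r i • e) = (∏ i, r i) • powFrame U e q
  | 0, r => by
    rw [Finset.univ_eq_empty, Finset.prod_empty, one_smul]
    rfl
  | p + 1, r => by
    show SecTwist.tmul _ _ U (KoszTw.tprod _ p U fun i => r i.castSucc • e) (r (Fin.last p) • e) = _
    rw [tprod_smul U e p fun i => r i.castSucc, Fin.prod_univ_castSucc]
    refine (Groth.L12.FinCov.tmul_smul_right _ _ U _ _ e).trans ?_
    refine (congrArg (r (Fin.last p) • ·) (Groth.L12.FinCov.tmul_smul_left _ _ U _ _ e)).trans ?_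
    rw [smul_smul, mul_comm]
    rfl

theorem muLoc_tprod (U : X.affineOpens) {e : Γ(ClSub.idealMod I, U.1)} (he : IsFrame _ U.1 e)
    (l : Fin q → Γ(ClSub.idealMod I, U.1)) (a : Fin q → Γ(FlatMod.freeMod X (n - 1), U.1)) :
    muLoc φL C U he (tens L _ U.1 ((φL U).symm (ιMulti Γ(X, U.1) q a))
        (KoszTw.tprod (ClSub.idealMod I) q U.1 l)) =
      (C.loc q U).symm (ιMulti _ q fun i => psi I n U.1 (l i) (a i)) := by
  choose r hr using fun i => he.exists_coeff le_rfl (l i)
  simp only [Groth.L18.Frame.rs_self] at hr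
  obtain rfl : (fun i => r i • e) = l := funext hr
  rw [tprod_smul]
  refine (congrArg (muLoc φL C U he) (Groth.L12.FinCov.tmul_smul_right L _ U.1 _ _ _)).trans ?_
  refine (map_smul _ _ _).trans ?_
  refine (congrArg ((∏ i, r i) • ·) (muLoc_tens φL C U he _)).trans ?_
  rw [← map_smul]
  refine congrArg _ ?_
  have h1 : exteriorPower.map q (psi I n U.1 e) (φL U ((φL U).symm (ιMulti Γ(X, U.1) q a))) =
      ιMulti Γ(X, U.1) q fun i => psi I n U.1 e (a i) := by
    rw [LinearEquiv.apply_symm_apply]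
    exact exteriorPower.map_apply_ιMulti _ _
  rw [h1, ← AlternatingMap.map_smul_univ]
  exact congrArg _ (funext fun i => by rw [psi_smul, LinearMap.smul_apply])

include hφL in
theorem muLoc_res {U V : X.affineOpens} (h : V.1 ≤ U.1) {e : Γ(ClSub.idealMod I, U.1)} (he : IsFrame _ U.1 e)
    {e' : Γ(ClSub.idealMod I, V.1)} (he' : IsFrame _ V.1 e')
    (x : Γ(CohB1.tensorMod L (CohB1.tensorPow (ClSub.idealMod I) q), U.1)) :
    muLoc φL C V he' (rs _ h x) = rs _ h (muLoc φL C U he x) := by
  obtain ⟨w, rfl⟩ := (twistₗ L (isFrame_tprod he q)).surjective x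
  obtain ⟨z, rfl⟩ := (φL U).symm.surjective w
  have hz : z ∈ Submodule.span Γ(X, U.1)
      (Set.range (ιMulti Γ(X, U.1) q (M := Γ(FlatMod.freeMod X (n - 1), U.1)))) := by
    rw [exteriorPower.ιMulti_span]; trivial
  induction hz using Submodule.span_induction with
  | mem v hv =>
    obtain ⟨a, rfl⟩ := hv
    show muLoc φL C V he' (rs _ h (tens L _ U.1 ((φL U).symm (ιMulti Γ(X, U.1) q a)) (powFrame U.1 e q))) =
      rs _ h (muLoc φL C U he (tens L _ U.1 _ (powFrame U.1 e q)))
    refine Eq.trans ?_ (congrArg (rs _ h) (muLoc_tprod φL C U he (fun _ => e) a)).symm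
    refine Eq.trans (congrArg (muLoc φL C V he') (SecTwist.map_tmul L _ (homOfLE h) _ _)) ?_
    refine Eq.trans (congrArg (muLoc φL C V he') (congrArg₂ (SecTwist.tmul L _ V.1) (hφL U V h a)
      (KoszTw.map_tprod (ClSub.idealMod I) q (homOfLE h) fun _ => e))) ?_
    refine (muLoc_tprod φL C V he' _ _).trans ?_
    refine Eq.trans ?_ (C.loc_res q U V h _).symm
    exact congrArg _ (congrArg _ (funext fun i => (psi_res I n h e (a i)).symm))
  | zero => simp [rs]
  | add a b _ _ ha hb =>
    simp only [map_add] at ha hb ⊢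
    simp only [rs, map_add] at ha hb ⊢
    rw [ha, hb]
  | smul r a _ ha =>
    simp only [map_smul, Groth.L18.Frame.rs_smul]
    rw [ha]

variable (I) in
/-- Small affine opens with a frame of the ideal module. -/
abbrev Good := {U : X.affineOpens // ∃ e : Γ(ClSub.idealMod I, U.1), IsFrame _ U.1 e}

theorem exists_goodOpen (hI : BlowUp.IsEffCartierIdeal I) (x : X) (W : X.Opens) (hx : x ∈ W) :
    ∃ G : Good I, x ∈ G.1.1 ∧ G.1.1 ≤ W := by
  obtain ⟨O, e, hxO, he⟩ :=
    Groth.L18.Frame.exists_frame ((Groth.Agent.L19.IdealInvertible.isEffCartier_iff I).2 hI) x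
  obtain ⟨V, hV, hxV, hle⟩ := exists_isAffineOpen_mem_and_subset (x := x) (U := O ⊓ W) ⟨hxO, hx⟩
  exact ⟨⟨⟨V, hV⟩, rs _ (fun z hz => (hle hz).1) e, he.mono _⟩, hxV, fun z hz => (hle hz).2⟩

theorem isBasis_good (hI : BlowUp.IsEffCartierIdeal I) :
    Opens.IsBasis (Set.range fun G : Good I => G.1.1) := by
  rw [Opens.isBasis_iff_nbhd]
  intro W x hx
  obtain ⟨G, hxG, hle⟩ := exists_goodOpen hI x W hx
  exact ⟨_, ⟨G, rfl⟩, hxG, hle⟩

/-- The differential read on exterior powers. -/
def locd (p : ℕ) (U : X.affineOpens) :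
    ⋀[Γ(X, U.1)]^(p + 1) Γ(copies I n, U.1) →ₗ[Γ(X, U.1)] ⋀[Γ(X, U.1)]^p Γ(copies I n, U.1) :=
  (C.loc p U).toLinearMap ∘ₗ appₗ (C.K.d (p + 1) p) U.1 ∘ₗ (C.loc (p + 1) U).symm.toLinearMap

theorem locd_ιMulti (p : ℕ) (U : X.affineOpens) (e : Fin (p + 1) → Γ(copies I n, U.1)) :
    locd C p U (ιMulti _ (p + 1) e) = KoszSh.dGen (KoszSh.secForm (copiesDesc I n) U.1) p e := by
  simp [locd, appₗ_apply, C.rule p U e]

theorem locd_loc (p : ℕ) (U : X.affineOpens) (z : Γ(C.K.X (p + 1), U.1)) :
    locd C p U (C.loc (p + 1) U z) = C.loc p U ((C.K.d (p + 1) p).app U.1 z) := by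
  simp [locd, appₗ_apply]

/-- The contraction when there is at least one copy. -/
def contraction (hn : 1 ≤ n) {U : X.Opens} {e : Γ(ClSub.idealMod I, U)} (he : IsFrame _ U e) :
    Contraction Γ(X, U) Γ(FlatMod.freeMod X (n - 1), U) Γ(copies I n, U) (psi I n U e)
      (KoszSh.secForm (copiesDesc I n) U) (io I U e) :=
  let σ := sigmaBasis (fun _ : Fin n => ClSub.idealMod I) U (fun _ => e) (fun _ => he)
  let b := σ.reindex (finCongr (by omega : n = (n - 1) + 1))
  have hb : ∀ k : Fin ((n - 1) + 1), b k =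
      (Sigma.ι (fun _ : Fin n => ClSub.idealMod I) ⟨k.1, by omega⟩).app U e := fun k => by
    rw [Module.Basis.reindex_apply, sigmaBasis_apply]
    rfl
  have hψ : (freeBasis (n - 1) U).constr Γ(X, U) (fun j => b j.succ - b 0) = psi I n U e := by
    refine congrArg _ (funext fun j => ?_)
    rw [hb, hb]
    rfl
  hψ ▸ Contraction.ofBasis b (freeBasis (n - 1) U) _ (io I U e) (fun k => by rw [hb]; exact secForm_copies U e _)

theorem map_psi_injective (U : X.Opens) {e : Γ(ClSub.idealMod I, U)} (he : IsFrame _ U e) (p : ℕ) :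
    Function.Injective (exteriorPower.map p (psi I n U e)) := by
  rcases n.eq_zero_or_pos with rfl | hn
  · haveI : IsEmpty (Fin (0 - 1)) := (finCongr (Nat.zero_sub 1)).isEmpty
    haveI : Subsingleton Γ(FlatMod.freeMod X (0 - 1), U) := (freeBasis (0 - 1) U).repr.toEquiv.subsingleton
    exact exteriorPower.map_injective (0 : _ →ₗ[Γ(X, U)] _) (LinearMap.ext fun a => Subsingleton.elim _ _)
  · exact (contraction hn he).map_injective p

theorem map_psi_surjective_of_zero (hn : n = 0) (U : X.Opens) {e : Γ(ClSub.idealMod I, U)}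
    (he : IsFrame _ U e) (p : ℕ) : Function.Surjective (exteriorPower.map p (psi I n U e)) := by
  subst hn
  haveI : Subsingleton Γ(copies I 0, U) :=
    (sigmaBasis (fun _ : Fin 0 => ClSub.idealMod I) U (fun _ => e) (fun _ => he)).repr.toEquiv.subsingleton
  exact exteriorPower.map_surjective fun m => ⟨0, Subsingleton.elim _ _⟩

theorem isSMulRegular_io (U : X.Opens) {e : Γ(ClSub.idealMod I, U)} (he : IsFrame _ U e) (p : ℕ) :
    IsSMulRegular (⋀[Γ(X, U)]^p Γ(copies I n, U)) (io I U e) := by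
  intro a b h
  let bD := (sigmaBasis (fun _ : Fin n => ClSub.idealMod I) U (fun _ => e) (fun _ => he)).exteriorPower p
  refine sub_eq_zero.1 (bD.repr.injective ?_)
  ext i
  have h2 := congrArg (fun v => bD.repr v i) h
  simp only [map_smul, Finsupp.smul_apply, smul_eq_mul] at h2
  rw [map_sub, map_zero, Finsupp.sub_apply, Finsupp.coe_zero, Pi.zero_apply]
  exact io_mem_nonZeroDivisors he _ (by rw [mul_sub, h2, sub_self])

theorem cycles_local (p : ℕ) (U : X.affineOpens) {e : Γ(ClSub.idealMod I, U.1)} (he : IsFrame _ U.1 e)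
    (z : Γ(C.K.X (p + 1), U.1)) :
    (C.K.d (p + 1) p).app U.1 z = 0 ↔
      ∃ w, exteriorPower.map (p + 1) (psi I n U.1 e) w = C.loc (p + 1) U z := by
  rw [← LinearEquiv.map_eq_zero_iff (C.loc p U), ← locd_loc]
  rcases n.eq_zero_or_pos with hn | hn
  · refine iff_of_true ?_ (map_psi_surjective_of_zero hn U.1 he _ _)
    obtain ⟨w, hw⟩ := map_psi_surjective_of_zero hn U.1 he (p + 1) (C.loc (p + 1) U z)
    have : (locd C p U).comp (exteriorPower.map (p + 1) (psi I n U.1 e)) = 0 := by
      refine exteriorPower.linearMap_ext ?_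
      ext a
      simp only [LinearMap.compAlternatingMap_apply, LinearMap.comp_apply, LinearMap.zero_apply,
        exteriorPower.map_apply_ιMulti]
      rw [locd_ιMulti]
      have h0 : ∀ i, (⇑(psi I n U.1 e) ∘ a) i = 0 := fun i => by
        subst hn
        haveI : Subsingleton Γ(copies I 0, U.1) :=
          (sigmaBasis (fun _ : Fin 0 => ClSub.idealMod I) U.1 (fun _ => e) (fun _ => he)).repr.toEquiv.subsingleton
        exact Subsingleton.elim _ _
      simp only [Function.comp_apply] at h0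
      simp [KoszSh.dGen, h0]
    rw [← hw]
    exact LinearMap.congr_fun this w
  · exact (contraction hn he).cycles p (locd C p U) (locd_ιMulti C p U) (isSMulRegular_io U.1 he p) _

theorem boundaries_local (hn : 1 ≤ n) (p : ℕ) (U : X.affineOpens) {e : Γ(ClSub.idealMod I, U.1)}
    (he : IsFrame _ U.1 e) (z : Γ(C.K.X p, U.1)) :
    (∃ v, (C.K.d (p + 1) p).app U.1 v = z) ↔
      ∃ w, io I U.1 e • exteriorPower.map p (psi I n U.1 e) w = C.loc p U z := by
  rw [← (contraction hn he).boundaries p (locd C p U) (locd_ιMulti C p U)]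
  constructor
  · rintro ⟨v, rfl⟩
    exact ⟨_, locd_loc C p U v⟩
  · rintro ⟨v, hv⟩
    refine ⟨(C.loc (p + 1) U).symm v, (C.loc p U).injective ?_⟩
    rw [← locd_loc, LinearEquiv.apply_symm_apply, hv]

include hφL in
/-- The comparison map. -/
theorem exists_mu (hI : BlowUp.IsEffCartierIdeal I) :
    ∃ μ : CohB1.tensorMod L (CohB1.tensorPow (ClSub.idealMod I) q) ⟶ C.K.X q,
      ∀ (U : X.affineOpens) (e : Γ(ClSub.idealMod I, U.1)) (he : IsFrame _ U.1 e) (x),
        μ.app U.1 x = muLoc φL C U he x := by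
  obtain ⟨μ, hμ⟩ := exists_hom_basis (fun G : Good I => G.1) (isBasis_good hI)
    (fun G => muLoc φL C G.1 G.2.choose_spec)
    (fun G G' h s => muLoc_res φL hφL C h G.2.choose_spec G'.2.choose_spec s)
  refine ⟨μ, fun U e he x => ?_⟩
  have := muLoc_res φL hφL C (le_refl U.1) (⟨U, e, he⟩ : Good I).2.choose_spec he x
  simp only [Groth.L18.Frame.rs_self] at this
  rw [this]
  exact hμ ⟨U, e, he⟩ x

include hφL in
/-- The cycles are the exterior power of differences twisted. -/
theorem exists_iso_cycles (hI : BlowUp.IsEffCartierIdeal I) :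
    ∃ σ : CohB1.tensorMod L (CohB1.tensorPow (ClSub.idealMod I) q) ≅ C.K.cycles q,
      ∀ (U : X.affineOpens) (e : Γ(ClSub.idealMod I, U.1)), IsFrame _ U.1 e → ∀ w : Γ(L, U.1),
        C.loc q U ((σ.hom ≫ C.K.iCycles q).app U.1 (tens L _ U.1 w (powFrame U.1 e q))) =
          exteriorPower.map q (psi I n U.1 e) (φL U w) := by
  obtain ⟨μ, hμ⟩ := exists_mu φL hφL C hI
  have hval : ∀ (U : X.affineOpens) (e : Γ(ClSub.idealMod I, U.1)), IsFrame _ U.1 e → ∀ w : Γ(L, U.1),
      C.loc q U (μ.app U.1 (tens L _ U.1 w (powFrame U.1 e q))) =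
        exteriorPower.map q (psi I n U.1 e) (φL U w) := fun U e he w => by
    rw [hμ U e he, muLoc_tens, LinearEquiv.apply_symm_apply]
  have hsurj : ∀ (U : X.affineOpens) (e : Γ(ClSub.idealMod I, U.1)), IsFrame _ U.1 e →
      ∀ x : Γ(CohB1.tensorMod L (CohB1.tensorPow (ClSub.idealMod I) q), U.1),
        ∃ w, tens L _ U.1 w (powFrame U.1 e q) = x := fun U e he x =>
    (bijective_tmul (M := L) (isFrame_tprod he q)).2 x
  have hzero : μ ≫ C.K.d q ((ComplexShape.down ℕ).next q) = 0 := by
    cases q with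
    | zero => rw [C.K.shape _ _ (by simp), comp_zero]
    | succ p =>
      rw [ChainComplex.next_nat_succ]
      refine hom_ext_cover fun x W hx => ?_
      obtain ⟨⟨U, e, he⟩, hxU, hUW⟩ := exists_goodOpen hI x W hx
      refine ⟨U, hxU, hUW, fun m => ?_⟩
      obtain ⟨w, rfl⟩ := hsurj U e he m
      rw [zero_app, comp_app_apply, cycles_local C p U he]
      exact ⟨_, (hval U e he w).symm⟩
  have hinj : ∀ (U : X.affineOpens) (e : Γ(ClSub.idealMod I, U.1)), IsFrame _ U.1 e →
      ∀ m, μ.app U.1 m = 0 → m = 0 := fun U e he m hm => by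
    obtain ⟨w, rfl⟩ := hsurj U e he m
    have h := hval U e he w
    rw [hm, map_zero] at h
    have : φL U w = 0 := map_psi_injective U.1 he q (by rw [← h, map_zero])
    rw [(φL U).map_eq_zero_iff] at this
    rw [this]
    exact Groth.L19.ProjBdl.tens_zero_left _
  haveI : Mono μ := Preadditive.mono_of_cancel_zero _ fun {P} g hg => hom_ext_cover fun x W hx => by
    obtain ⟨⟨U, e, he⟩, hxU, hUW⟩ := exists_goodOpen hI x W hx
    refine ⟨U, hxU, hUW, fun m => hinj U e he _ ?_⟩
    rw [← comp_app_apply, hg, zero_app]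
  let σ := C.K.liftCycles μ _ rfl hzero
  have hσ : σ ≫ C.K.iCycles q = μ := C.K.liftCycles_i _ _ _ _
  haveI : Mono σ := by
    haveI : Mono (σ ≫ C.K.iCycles q) := by rw [hσ]; infer_instance
    exact mono_of_mono σ (C.K.iCycles q)
  haveI : Epi σ := Preadditive.epi_of_cancel_zero _ fun {P} g hg => hom_ext_cover fun x W hx => by
    obtain ⟨⟨U, e, he⟩, hxU, hUW⟩ := exists_goodOpen hI x W hx
    refine ⟨U, hxU, hUW, fun m => ?_⟩
    have hd := C.K.iCycles_d q ((ComplexShape.down ℕ).next q)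
    obtain ⟨w, hw⟩ : ∃ w, exteriorPower.map q (psi I n U.1 e) w = C.loc q U ((C.K.iCycles q).app U.1 m) := by
      cases q with
      | zero =>
        obtain ⟨r, hr⟩ := (exteriorPower.zeroEquiv Γ(X, U.1) Γ(copies I n, U.1)).symm.surjective
          (C.loc 0 U ((C.K.iCycles 0).app U.1 m))
        refine ⟨(exteriorPower.zeroEquiv Γ(X, U.1) Γ(FlatMod.freeMod X (n - 1), U.1)).symm r, ?_⟩
        rw [← hr, exteriorPower.zeroEquiv_symm_apply, exteriorPower.zeroEquiv_symm_apply, map_smul,
          exteriorPower.map_apply_ιMulti]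
        exact congrArg (r • ·) (congrArg _ (funext fun i => i.elim0))
      | succ p =>
        rw [ChainComplex.next_nat_succ] at hd
        refine (cycles_local C p U he _).1 ?_
        rw [← comp_app_apply, hd, zero_app]
    have hm : σ.app U.1 (tens L _ U.1 ((φL U).symm w) (powFrame U.1 e q)) = m := by
      refine app_injective_of_mono (C.K.iCycles q) U.1 ((C.loc q U).injective ?_)
      rw [← comp_app_apply, hσ, hval U e he, LinearEquiv.apply_symm_apply, hw]
    rw [zero_app, ← hm, ← comp_app_apply, hg, zero_app]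
  haveI : IsIso σ := isIso_of_mono_of_epi σ
  refine ⟨asIso σ, fun U e he w => ?_⟩
  rw [asIso_hom, hσ]
  exact hval U e he w

end Groth.L04.KSh
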