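import Groth.Agent.L04.KSh.RingLevel
import Mathlib.LinearAlgebra.Basis.Prod

/-!
# An element regular modulo a complete intersection is regular on Koszul homology
-/

set_option autoImplicit false

universe u

noncomputable section

namespace Groth.L04.KSh

variable {R : Type*} [CommRing R] {M N : Type*} [AddCommGroup M] [Module R M] [AddCommGroup N] [Module R N]

theorem contr_map (f : M →ₗ[R] N) (φ : M →ₗ[R] R) (ψ : N →ₗ[R] R) (h : ∀ m, ψ (f m) = φ m)
    (z : ExteriorAlgebra R M) :
    contr ψ (ExteriorAlgebra.map f z) = ExteriorAlgebra.map f (contr φ z) := by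
  induction z using CliffordAlgebra.left_induction with
  | algebraMap r =>
    rw [AlgHom.commutes, show contr ψ (algebraMap R _ r) = 0 from CliffordAlgebra.contractLeft_algebraMap _ ψ r,
      show contr φ (algebraMap R _ r) = 0 from CliffordAlgebra.contractLeft_algebraMap _ φ r, map_zero]
  | add a b ha hb => simp only [map_add, ha, hb]
  | ι_mul a m ha =>
    show contr ψ (ExteriorAlgebra.map f (ExteriorAlgebra.ι R m * a)) =
      ExteriorAlgebra.map f (contr φ (ExteriorAlgebra.ι R m * a))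
    rw [map_mul, ExteriorAlgebra.map_apply_ι, contr_ι_mul, contr_ι_mul, ha, h, map_sub, map_smul, map_mul,
      ExteriorAlgebra.map_apply_ι]

theorem map_mem_pow (f : M →ₗ[R] N) (S : Submodule R M) (T : Submodule R N) (h : ∀ m ∈ S, f m ∈ T) :
    ∀ (p : ℕ) {z : ExteriorAlgebra R M}, z ∈ im S ^ p → ExteriorAlgebra.map f z ∈ im T ^ p := by
  intro p
  induction p with
  | zero =>
    intro z hz
    obtain ⟨r, rfl⟩ := exists_eq_of_mem_pow_zero hz
    rw [AlgHom.commutes]
    exact algebraMap_mem_pow_zero T r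
  | succ p ih =>
    intro z hz
    rw [pow_succ'] at hz
    induction hz using Submodule.mul_induction_on' with
    | mem_mul_mem a ha b hb =>
      obtain ⟨m, hm, rfl⟩ := ha
      rw [map_mul, ExteriorAlgebra.map_apply_ι]
      exact ι_mul_mem_pow (h m hm) (ih hb)
    | add a _ b _ ha hb => rw [map_add]; exact add_mem ha hb

theorem im_top_pow (p : ℕ) : im (⊤ : Submodule R M) ^ p = ⋀[R]^p M := by
  rw [im, Submodule.map_top]

/-- An element regular on the homology of a subspace. -/
def RegularOn (φ : M →ₗ[R] R) (x : R) (S : Submodule R M) : Prop :=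
  ∀ p, ∀ z ∈ im S ^ p, contr φ z = 0 → (∃ w ∈ im S ^ (p + 1), contr φ w = x • z) →
    ∃ w ∈ im S ^ (p + 1), contr φ w = z

theorem RegularOn.add_vector {φ : M →ₗ[R] R} {x : R} {S : Submodule R M} (hS : RegularOn φ x S) {m₀ : M}
    (hm₀ : φ m₀ = 0) (ε : M →ₗ[R] R) (hεS : ∀ m ∈ S, ε m = 0) (hε0 : ε m₀ = 1) :
    RegularOn φ x (S ⊔ Submodule.span R {m₀}) := by
  have hm0 : m₀ ∈ S ⊔ Submodule.span R {m₀} := Submodule.mem_sup_right (Submodule.mem_span_singleton_self _)
  have hle : ∀ q, im S ^ q ≤ im (S ⊔ Submodule.span R {m₀}) ^ q := fun q =>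
    pow_le_pow_left' (Submodule.map_mono le_sup_left) q
  have sep : ∀ (k j : ℕ) (a b : ExteriorAlgebra R M), a ∈ im S ^ k → b ∈ im S ^ j →
      a + ExteriorAlgebra.ι R m₀ * b = 0 → a = 0 ∧ b = 0 := by
    intro k j a b ha hb h
    have hb0 : b = 0 := by
      have := congrArg (contr ε) h
      rwa [map_add, map_zero, contr_ι_mul, hε0, one_smul, contr_eq_zero_of_vanish ε S hεS k ha,
        contr_eq_zero_of_vanish ε S hεS j hb, mul_zero, sub_zero, zero_add] at this
    refine ⟨?_, hb0⟩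
    rwa [hb0, mul_zero, add_zero] at h
  have hd : ∀ a b, contr φ (a + ExteriorAlgebra.ι R m₀ * b) =
      contr φ a + ExteriorAlgebra.ι R m₀ * -contr φ b := fun a b => by
    rw [map_add, contr_ι_mul, hm₀, zero_smul, zero_sub, mul_neg]
  intro p z hz hdz ⟨w, hw, hdw⟩
  obtain ⟨u', hu', v', hv', rfl⟩ := exists_split S m₀ p hw
  cases p with
  | zero =>
    obtain ⟨r, rfl⟩ := exists_eq_of_mem_pow_zero hz
    rw [hd] at hdw
    have hv0 : contr φ v' = 0 := by
      obtain ⟨s, rfl⟩ := exists_eq_of_mem_pow_zero hv'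
      exact CliffordAlgebra.contractLeft_algebraMap _ φ s
    rw [hv0, neg_zero, mul_zero, add_zero] at hdw
    obtain ⟨y, hy, hdy⟩ := hS 0 _ (algebraMap_mem_pow_zero S r) hdz ⟨u', hu', hdw⟩
    exact ⟨y, hle _ hy, hdy⟩
  | succ p =>
    obtain ⟨u, hu, v, hv, rfl⟩ := exists_split S m₀ p hz
    rw [hd] at hdz
    have hv0 : contr φ v = 0 := by
      cases p with
      | zero =>
        obtain ⟨s, rfl⟩ := exists_eq_of_mem_pow_zero hv
        exact CliffordAlgebra.contractLeft_algebraMap _ φ s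
      | succ p => exact neg_eq_zero.1 (sep _ _ _ _ (contr_mem φ S _ hu) (neg_mem (contr_mem φ S _ hv)) hdz).2
    have hu0 : contr φ u = 0 := by
      rwa [hv0, neg_zero, mul_zero, add_zero] at hdz
    rw [hd] at hdw
    have h0 : (contr φ u' - x • u) + ExteriorAlgebra.ι R m₀ * (-contr φ v' - x • v) = 0 := by
      rw [mul_sub, mul_smul_comm]
      rw [smul_add] at hdw
      rw [show contr φ u' = x • u + x • (ExteriorAlgebra.ι R m₀ * v) - ExteriorAlgebra.ι R m₀ * -contr φ v'
        from eq_sub_of_add_eq hdw]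
      abel
    obtain ⟨h1, h2⟩ := sep _ _ _ _ (sub_mem (contr_mem φ S _ hu') (Submodule.smul_mem _ _ hu))
      (sub_mem (neg_mem (contr_mem φ S _ hv')) (Submodule.smul_mem _ _ hv)) h0
    obtain ⟨a, ha, hda⟩ := hS (p + 1) u hu hu0 ⟨u', hu', sub_eq_zero.1 h1⟩
    obtain ⟨b, hb, hdb⟩ := hS p v hv hv0 ⟨-v', neg_mem hv', by rw [map_neg]; exact sub_eq_zero.1 h2⟩
    refine ⟨a + ExteriorAlgebra.ι R m₀ * (-b), add_mem (hle _ ha) (ι_mul_mem_pow hm0 (hle _ (neg_mem hb))), ?_⟩
    rw [hd, map_neg, neg_neg, hda, hdb]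

theorem regularOn_inr {c : ℕ} (φ : M →ₗ[R] R) (g : Fin c → R)
    (hg : RingTheory.Sequence.IsWeaklyRegular R (List.ofFn g)) {x : R}
    (hx : ∀ r, x * r ∈ Ideal.span (Set.range g) → r ∈ Ideal.span (Set.range g)) :
    RegularOn (φ.coprod (Fintype.linearCombination R g)) x
      (LinearMap.range (LinearMap.inr R M (Fin c → R))) := by
  let ι₂ := LinearMap.inr R M (Fin c → R)
  let π₂ := LinearMap.snd R M (Fin c → R)
  set Φ := φ.coprod (Fintype.linearCombination R g)
  let γ : (Fin c → R) →ₗ[R] R := Fintype.linearCombination R g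
  have hΦ : ∀ a, Φ (ι₂ a) = γ a := fun a => by simp [Φ, ι₂, γ]
  intro p z hz hdz ⟨w, hw, hdw⟩
  have hfix : ∀ (q : ℕ) {y : ExteriorAlgebra R (M × (Fin c → R))}, y ∈ im (LinearMap.range ι₂) ^ q →
      ExteriorAlgebra.map ι₂ (ExteriorAlgebra.map π₂ y) = y := fun q y hy => by
    have := map_eq_self_of_fixed (ι₂.comp π₂) (LinearMap.range ι₂)
      (by rintro _ ⟨a, rfl⟩; simp [ι₂, π₂]) q hy
    rw [← ExteriorAlgebra.map_comp_map] at this
    exact this
  have hinj : Function.Injective (ExteriorAlgebra.map ι₂) := fun a b hab => by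
    have := congrArg (ExteriorAlgebra.map π₂) hab
    have hid : π₂.comp ι₂ = LinearMap.id := LinearMap.ext fun a => rfl
    rw [← AlgHom.comp_apply, ← AlgHom.comp_apply, ExteriorAlgebra.map_comp_map, hid, ExteriorAlgebra.map_id] at this
    exact this
  have hback : ∀ (q : ℕ) {y : ExteriorAlgebra R (M × (Fin c → R))}, y ∈ im (LinearMap.range ι₂) ^ q →
      ExteriorAlgebra.map π₂ y ∈ ⋀[R]^q (Fin c → R) := fun q y hy => by
    rw [← im_top_pow]
    exact map_mem_pow π₂ _ ⊤ (fun _ _ => trivial) q hy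
  have hforth : ∀ (q : ℕ) {y : ExteriorAlgebra R (Fin c → R)}, y ∈ ⋀[R]^q (Fin c → R) →
      ExteriorAlgebra.map ι₂ y ∈ im (LinearMap.range ι₂) ^ q := fun q y hy =>
    map_mem_pow ι₂ ⊤ (LinearMap.range ι₂) (fun a _ => LinearMap.mem_range_self ι₂ a) q (by rwa [im_top_pow])
  cases p with
  | zero =>
    obtain ⟨r, rfl⟩ := exists_eq_of_mem_pow_zero hz
    rw [pow_one] at hw
    obtain ⟨_, ⟨a, rfl⟩, rfl⟩ := hw
    rw [show contr Φ (ExteriorAlgebra.ι R (ι₂ a)) = algebraMap R _ (Φ (ι₂ a)) from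
      CliffordAlgebra.contractLeft_ι _ Φ _, Algebra.smul_def, ← map_mul, ExteriorAlgebra.algebraMap_inj, hΦ] at hdw
    have hmem : r ∈ Ideal.span (Set.range g) := hx r (by
      rw [← hdw]
      show Fintype.linearCombination R g a ∈ Submodule.span R (Set.range g)
      rw [← Fintype.range_linearCombination R g]
      exact LinearMap.mem_range_self _ a)
    rw [Ideal.span, ← Fintype.range_linearCombination R g] at hmem
    obtain ⟨a', ha'⟩ := hmem
    refine ⟨ExteriorAlgebra.ι R (ι₂ a'), by rw [pow_one]; exact Submodule.mem_map_of_mem (p := LinearMap.range ι₂) (LinearMap.mem_range_self ι₂ a'), ?_⟩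
    rw [show contr Φ (ExteriorAlgebra.ι R (ι₂ a')) = algebraMap R _ (Φ (ι₂ a')) from
      CliffordAlgebra.contractLeft_ι _ Φ _, hΦ]
    exact congrArg _ ha'
  | succ p =>
    have hlist : (List.ofFn fun k => γ (Pi.basisFun R (Fin c) k)) = List.ofFn g := by
      refine congrArg _ (funext fun k => ?_)
      simp [γ, Fintype.linearCombination_apply, Pi.single_apply]
    have hdz' : contr γ (ExteriorAlgebra.map π₂ z) = 0 := hinj (by
      rw [map_zero, ← contr_map ι₂ γ Φ hΦ, hfix _ hz]
      exact hdz)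
    obtain ⟨y, hy, hdy⟩ := exact_of_isWeaklyRegular (Pi.basisFun R (Fin c)) γ (by rw [hlist]; exact hg) p
      (hback _ hz) hdz'
    refine ⟨ExteriorAlgebra.map ι₂ y, hforth _ hy, ?_⟩
    rw [contr_map ι₂ γ Φ hΦ, hdy, hfix _ hz]

/-- An element regular modulo a complete intersection is regular on the Koszul homology. -/
theorem mem_boundaries_of_smul {n c : ℕ} (b : Module.Basis (Fin n) R M) (φ : M →ₗ[R] R) (g : Fin c → R)
    (hg : RingTheory.Sequence.IsWeaklyRegular R (List.ofFn g))
    (hspan : Ideal.span (Set.range g) = Ideal.span (Set.range fun i => φ (b i))) {x : R}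
    (hx : ∀ r, x * r ∈ Ideal.span (Set.range g) → r ∈ Ideal.span (Set.range g)) (p : ℕ)
    {z : ExteriorAlgebra R M} (hz : z ∈ ⋀[R]^p M) (hdz : contr φ z = 0)
    (hxz : ∃ w ∈ ⋀[R]^(p + 1) M, contr φ w = x • z) :
    ∃ w ∈ ⋀[R]^(p + 1) M, contr φ w = z := by
  classical
  let Φ := φ.coprod (Fintype.linearCombination R g)
  have hrange : ∀ i, φ (b i) ∈ LinearMap.range (Fintype.linearCombination R g) := fun i => by
    rw [Fintype.range_linearCombination]
    show φ (b i) ∈ Ideal.span (Set.range g)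
    rw [hspan]
    exact Ideal.subset_span ⟨i, rfl⟩
  choose a ha using hrange
  have hlift : ∀ j, g j ∈ LinearMap.range φ := fun j => by
    have h : g j ∈ Ideal.span (Set.range fun i => φ (b i)) := hspan ▸ Ideal.subset_span ⟨j, rfl⟩
    exact (Submodule.span_le (p := LinearMap.range φ)).2 (by rintro _ ⟨i, rfl⟩; exact ⟨_, rfl⟩) h
  choose v hv using hlift
  let m : Fin n → M × (Fin c → R) := fun i => (b i, -a i)
  let S : Finset (Fin n) → Submodule R (M × (Fin c → R)) := fun s =>
    LinearMap.range (LinearMap.inr R M (Fin c → R)) ⊔ Submodule.span R (m '' s)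
  have hS : ∀ s, RegularOn Φ x (S s) := by
    intro s
    induction s using Finset.induction_on with
    | empty => simpa [S] using regularOn_inr φ g hg hx
    | insert i s his ih =>
      have : S (insert i s) = S s ⊔ Submodule.span R {m i} := by
        simp only [S, Finset.coe_insert, Set.image_insert_eq]
        rw [Submodule.span_insert, sup_comm (Submodule.span R {m i}), sup_assoc]
      rw [this]
      refine ih.add_vector (by simp [Φ, m, ha]) ((b.coord i).comp (LinearMap.fst R M _)) (fun y hy => ?_) (by simp [m])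
      refine (sup_le ?_ ?_ : S s ≤ LinearMap.ker ((b.coord i).comp (LinearMap.fst R M _))) hy
      · rintro _ ⟨e, rfl⟩
        simp
      · rw [Submodule.span_le]
        rintro _ ⟨j, hj, rfl⟩
        have hne : j ≠ i := fun h => his (h ▸ hj)
        simp [m, hne]
  have htop : S Finset.univ = ⊤ := by
    refine Submodule.eq_top_iff'.2 fun y => ?_
    have hb : ∀ v : M, ∃ e, ((v, e) : M × (Fin c → R)) ∈ S Finset.univ := fun v => by
      refine ⟨∑ i, b.repr v i • -a i, ?_⟩
      have : ((v, ∑ i, b.repr v i • -a i) : M × (Fin c → R)) = ∑ i, b.repr v i • m i := by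
        refine Prod.ext ?_ ?_ <;> simp [m, Prod.fst_sum, Prod.snd_sum, b.sum_repr]
      rw [this]
      exact Submodule.sum_mem _ fun i _ => Submodule.smul_mem _ _
        (Submodule.mem_sup_right (Submodule.subset_span ⟨i, Finset.mem_univ _, rfl⟩))
    obtain ⟨e, he⟩ := hb y.1
    rw [show y = (y.1, e) + LinearMap.inr R M (Fin c → R) (y.2 - e) by simp]
    exact add_mem he (Submodule.mem_sup_left ⟨_, rfl⟩)
  have hfull := hS Finset.univ
  rw [htop] at hfull
  let inl' := LinearMap.inl R M (Fin c → R)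
  let r : M × (Fin c → R) →ₗ[R] M := LinearMap.id.coprod (Fintype.linearCombination R v)
  have hinl : ∀ y, Φ (inl' y) = φ y := fun y => by simp [Φ, inl']
  have hr : ∀ y, φ (r y) = Φ y := fun y => by
    simp [r, Φ, Fintype.linearCombination_apply, map_sum, map_smul, hv]
  obtain ⟨w, hw, hdw⟩ := hxz
  obtain ⟨W, hW, hdW⟩ := hfull p (ExteriorAlgebra.map inl' z)
    (map_mem_pow inl' ⊤ ⊤ (fun _ _ => trivial) p (by rwa [im_top_pow]))
    (by rw [contr_map inl' φ Φ hinl, hdz, map_zero])
    ⟨ExteriorAlgebra.map inl' w, map_mem_pow inl' ⊤ ⊤ (fun _ _ => trivial) _ (by rwa [im_top_pow]),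
      by rw [contr_map inl' φ Φ hinl, hdw, map_smul]⟩
  refine ⟨ExteriorAlgebra.map r W, ?_, ?_⟩
  · rw [← im_top_pow]
    exact map_mem_pow r ⊤ ⊤ (fun _ _ => trivial) _ hW
  · have hid : r.comp inl' = LinearMap.id := LinearMap.ext fun y => by simp [r, inl']
    rw [contr_map r Φ φ hr, hdW, ← AlgHom.comp_apply, ExteriorAlgebra.map_comp_map, hid, ExteriorAlgebra.map_id]
    rfl

end Groth.L04.KSh
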