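import Groth.Agent.L04.KSh.Div.Twisted
import Groth.Agent.L04.KSh.Div.RegularHomology
import Groth.Agent.L04.KSh.Div.Contract
import Groth.Agent.L04.CMLoc
import Groth.Agent.L08.Cube.SmoothStalk
import Groth.Agent.L11.SmRegular.Basic
import Groth.Agent.L21.Mod.Stalks
import Groth.Prelude.Def_RegImm
import Mathlib.RingTheory.Regular.Flat

/-!
# A divisor through no component of a complete intersection is regular on Koszul homology
-/

set_option autoImplicit false
set_option linter.style.haveILetI false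
set_option backward.isDefEq.respectTransparency false

universe u

open CategoryTheory CategoryTheory.Limits TopologicalSpace AlgebraicGeometry Opposite exteriorPower
open Groth.L18.Frame (rs IsFrame)
open Groth.Agent.L19.IdealInvertible (io)
open RingTheory.Sequence

noncomputable section

namespace Groth.L04.KSh

variable {X : Scheme.{u}} (J ID : X.IdealSheafData)

theorem exists_regular_gens (hZ : RegImm.IsRegularImmersion RegImm.Kind.regular J.subschemeι) (p : X) :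
    ∃ U : X.affineOpens, p ∈ U.1 ∧ ∃ rs : List Γ(X, U.1),
      IsWeaklyRegular Γ(X, U.1) rs ∧ J.ideal U = Ideal.ofList rs := by
  by_cases hp : p ∈ Set.range J.subschemeι.base
  · obtain ⟨z, rfl⟩ := hp
    obtain ⟨U, hzU, -, rs, hseq, hker⟩ := hZ.2 z
    exact ⟨U, hzU, rs, hseq.toIsWeaklyRegular, (J.ker_subschemeι_app U).symm.trans hker⟩
  · rw [J.range_subschemeι] at hp
    obtain ⟨V, hV, hpV, hle⟩ := exists_isAffineOpen_mem_and_subset (x := p)
      (U := ⟨(J.support : Set X)ᶜ, J.support.2.isOpen_compl⟩) hp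
    refine ⟨⟨V, hV⟩, hpV, [1], ?_, ?_⟩
    · rw [isWeaklyRegular_cons_iff]
      exact ⟨fun a b h => by simpa using h, IsWeaklyRegular.nil _ _⟩
    · rw [show Ideal.ofList [(1 : Γ(X, V))] = ⊤ by simp]
      refine Ideal.eq_top_iff_one _ |>.2 ?_
      have h1 : X.zeroLocus (U := V) (J.ideal ⟨V, hV⟩ : Set Γ(X, V)) ∩ (V : Set X) = ∅ := by
        rw [← Scheme.IdealSheafData.coe_support_inter J ⟨V, hV⟩]
        exact Set.eq_empty_iff_forall_notMem.2 fun y hy => hle hy.2 hy.1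
      by_contra hne
      obtain ⟨m, hm, hle'⟩ := Ideal.exists_le_maximal _ (fun h => hne ((Ideal.eq_top_iff_one _).1 h))
      have hmem : (hV.fromSpec ⟨m, hm.isPrime⟩) ∈ X.zeroLocus (U := V) (J.ideal ⟨V, hV⟩ : Set Γ(X, V)) ∩ (V : Set X) := by
        rw [← hV.fromSpec_image_zeroLocus]
        exact ⟨_, hle', rfl⟩
      rw [h1] at hmem
      exact hmem

theorem regular_mod [IsLocallyNoetherian X] (hCM : ∀ p : X, LocCoh.IsCohenMacaulayLocalRing (X.presheaf.stalk p))
    (hZD : ∀ z : ↥J.subscheme, ringKrullDim (J.subscheme.presheaf.stalk z) = 0 →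
      J.subschemeι.base z ∉ Set.range ID.subschemeι.base)
    (V : X.affineOpens) (rs : List Γ(X, V.1)) (hrs : IsWeaklyRegular Γ(X, V.1) rs)
    (hJ : J.ideal V = Ideal.ofList rs) (x : Γ(X, V.1)) (hx : ID.ideal V = Ideal.span {x})
    (r : Γ(X, V.1)) (hr : x * r ∈ J.ideal V) : r ∈ J.ideal V := by
  haveI : IsNoetherianRing Γ(X, V.1) := IsLocallyNoetherian.component_noetherian V
  by_contra hr'
  have hmk : (Ideal.Quotient.mk (J.ideal V) r : Γ(X, V.1) ⧸ J.ideal V) ≠ 0 := fun h =>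
    hr' (Ideal.Quotient.eq_zero_iff_mem.1 h)
  have hxz : x ∈ ⋃ P ∈ associatedPrimes Γ(X, V.1) (Γ(X, V.1) ⧸ J.ideal V), (P : Set Γ(X, V.1)) := by
    rw [biUnion_associatedPrimes_eq_zero_divisors]
    exact ⟨_, hmk, (Ideal.Quotient.eq_zero_iff_mem.2 hr : Ideal.Quotient.mk (J.ideal V) (x * r) = 0)⟩
  simp only [Set.mem_iUnion] at hxz
  obtain ⟨P, hP, hxP⟩ := hxz
  obtain ⟨hPp, w, hw⟩ := isAssociatedPrime_iff.1 hP
  obtain ⟨a, rfl⟩ := Ideal.Quotient.mk_surjective w
  have hPmem : ∀ c, c ∈ P ↔ c * a ∈ J.ideal V := fun c => by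
    rw [hw, Submodule.mem_colon_singleton, Submodule.mem_bot]
    exact Ideal.Quotient.eq_zero_iff_mem
  have hJP : J.ideal V ≤ P := fun c hc => (hPmem c).2 (Ideal.mul_mem_right _ _ hc)
  set y := V.2.fromSpec ⟨P, hPp⟩ with hy
  have hsup : ∀ (I : X.IdealSheafData), I.ideal V ≤ P → y ∈ Set.range I.subschemeι.base := fun I hI => by
    rw [I.range_subschemeι]
    have hmem : y ∈ X.zeroLocus (U := V.1) (I.ideal V : Set Γ(X, V.1)) ∩ (V.1 : Set X) := by
      rw [← V.2.fromSpec_image_zeroLocus]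
      exact ⟨_, hI, rfl⟩
    rw [← Scheme.IdealSheafData.coe_support_inter I V] at hmem
    exact hmem.1
  obtain ⟨z, hz⟩ := hsup J hJP
  refine hZD z ?_ (hz ▸ hsup ID (by rw [hx, Ideal.span_singleton_le_iff_mem]; exact hxP))
  have hyV : J.subschemeι z ∈ V.1 := by
    rw [hz]
    exact V.2.range_fromSpec.le ⟨_, rfl⟩
  obtain ⟨hsurj, hker⟩ := Groth.L11.SmRegular.stalkMap_subschemeι J z V hyV
  set S := X.presheaf.stalk (J.subschemeι z)
  letI : Algebra Γ(X, V.1) S := (X.presheaf.germ V.1 _ hyV).hom.toAlgebra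
  haveI := V.2.isLocalization_stalk ⟨J.subschemeι z, hyV⟩
  haveI := hCM (J.subschemeι z)
  haveI : IsNoetherianRing S := inferInstance
  have hprime : (V.2.primeIdealOf ⟨J.subschemeι z, hyV⟩).asIdeal = P := by
    have : (⟨J.subschemeι z, hyV⟩ : V.1) = ⟨y, by rw [← hz]; exact hyV⟩ := Subtype.ext hz
    rw [this]
    exact congrArg PrimeSpectrum.asIdeal (V.2.fromSpec.isOpenEmbedding.injective
      ((V.2.fromSpec_primeIdealOf _).trans hy))
  set JS := (J.ideal V).map (algebraMap Γ(X, V.1) S) with hJS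
  have hmax : IsLocalRing.maximalIdeal S = P.map (algebraMap Γ(X, V.1) S) := by
    rw [← IsLocalization.AtPrime.map_eq_maximalIdeal (V.2.primeIdealOf ⟨J.subschemeι z, hyV⟩).asIdeal S, hprime]
  have hnot : algebraMap Γ(X, V.1) S a ∉ JS := fun h => by
    rw [hJS, IsLocalization.algebraMap_mem_map_algebraMap_iff
      (V.2.primeIdealOf ⟨J.subschemeι z, hyV⟩).asIdeal.primeCompl S] at h
    obtain ⟨s, hs, hsa⟩ := h
    exact hs (show s ∈ (V.2.primeIdealOf ⟨J.subschemeι z, hyV⟩).asIdeal by rw [hprime]; exact (hPmem s).2 hsa)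
  have hJle : JS ≤ IsLocalRing.maximalIdeal S := hmax ▸ Ideal.map_mono hJP
  let rs' := rs.map (algebraMap Γ(X, V.1) S)
  have hofList : Ideal.ofList rs' = JS := by
    rw [hJS, hJ, Ideal.map_ofList]
  have hI : ∀ e ∈ rs', e ∈ IsLocalRing.maximalIdeal S := fun e he =>
    hJle (hofList ▸ Ideal.subset_span he)
  haveI : Module.Flat Γ(X, V.1) S := IsLocalization.flat _ (V.2.primeIdealOf ⟨J.subschemeι z, hyV⟩).asIdeal.primeCompl
  have hCMq := Groth.L04.isCohenMacaulayModule_quotient_ofList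
    (R := S) (M := S) (hCM (J.subschemeι z)).supportDim_eq_depth (hrs.of_flat (S := S)) hI
  have heq : Ideal.ofList rs' • (⊤ : Submodule S S) = JS := by
    rw [hofList, Ideal.smul_eq_mul, Ideal.mul_top]
  let e := Submodule.quotEquivOfEq (Ideal.ofList rs' • (⊤ : Submodule S S)) JS heq
  have hass : IsLocalRing.maximalIdeal S ∈ associatedPrimes S (S ⧸ Ideal.ofList rs' • (⊤ : Submodule S S)) := by
    refine isAssociatedPrime_iff.2 ⟨(IsLocalRing.maximalIdeal.isMaximal S).isPrime,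
      Submodule.Quotient.mk (algebraMap Γ(X, V.1) S a), ?_⟩
    refine le_antisymm ?_ (IsLocalRing.le_maximalIdeal fun htop => ?_)
    · rw [hmax, Ideal.map_le_iff_le_comap]
      intro c hc
      rw [Ideal.mem_comap, Submodule.mem_colon_singleton, Submodule.mem_bot, ← Submodule.Quotient.mk_smul,
        Submodule.Quotient.mk_eq_zero, heq, smul_eq_mul, ← map_mul]
      exact Ideal.mem_map_of_mem _ ((hPmem c).1 hc)
    · have h1 : (1 : S) ∈ (⊥ : Submodule S (S ⧸ Ideal.ofList rs' • (⊤ : Submodule S S))).colon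
          {Submodule.Quotient.mk (algebraMap Γ(X, V.1) S a)} := by rw [htop]; trivial
      rw [Submodule.mem_colon_singleton, Submodule.mem_bot, one_smul, Submodule.Quotient.mk_eq_zero, heq] at h1
      exact hnot h1
  have hdim := Groth.L04.ringKrullDim_quotient_eq_supportDim_of_isCM hCMq hass
  rw [Module.supportDim_eq_of_equiv e, Module.supportDim_quotient_eq_ringKrullDim] at hdim
  letI := Ideal.Quotient.field (IsLocalRing.maximalIdeal S)
  rw [ringKrullDim_eq_zero_of_field (S ⧸ IsLocalRing.maximalIdeal S)] at hdim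
  rw [hdim, ← ringKrullDim_eq_of_ringEquiv ((Ideal.quotEquivOfEq (hker : _ = JS).symm).trans
    (RingHom.quotientKerEquivOfSurjective hsurj))]
  rfl

variable {n : ℕ} {IY : Fin n → X.IdealSheafData} {ID}

theorem contr_pow_zero {R M : Type*} [CommRing R] [AddCommGroup M] [Module R M] (φ : M →ₗ[R] R)
    {z : ExteriorAlgebra R M} (hz : z ∈ ⋀[R]^0 M) : contr φ z = 0 := by
  rw [← im_top_pow] at hz
  obtain ⟨r, rfl⟩ := exists_eq_of_mem_pow_zero hz
  exact CliffordAlgebra.contractLeft_algebraMap _ φ r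

theorem loc_d_coe {E : X.Modules} {s : E ⟶ Coh.structureModule X} (C : KoszSh.Cx E s) (p : ℕ) (U : X.affineOpens)
    (w : Γ(C.K.X (p + 1), U.1)) :
    (C.loc p U ((C.K.d (p + 1) p).app U.1 w) : ExteriorAlgebra Γ(X, U.1) Γ(E, U.1)) =
      contr (KoszSh.secForm s U.1) (C.loc (p + 1) U w : ExteriorAlgebra Γ(X, U.1) Γ(E, U.1)) := by
  have := coe_d (KoszSh.secForm s U.1) p
    ((C.loc p U).toLinearMap ∘ₗ appₗ (C.K.d (p + 1) p) U.1 ∘ₗ (C.loc (p + 1) U).symm.toLinearMap)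
    (fun e => by simp [appₗ_apply, C.rule p U e]) (C.loc (p + 1) U w)
  simpa [appₗ_apply] using this

theorem res_eq_zero_of_germ {M : X.Modules} {p : X} {W : X.Opens} (hp : p ∈ W) (m : Γ(M, W))
    (h : M.presheaf.germ W p hp m = 0) : ∃ (W' : X.Opens) (hW : W' ≤ W), p ∈ W' ∧ rs M hW m = 0 := by
  obtain ⟨W', hpW', i₁, i₂, heq⟩ := TopCat.Presheaf.germ_eq M.presheaf p hp hp m 0 (h.trans (map_zero _).symm)
  exact ⟨W', i₁.le, hpW', heq.trans (map_zero _)⟩

theorem isSMulRegular_homology [IsLocallyNoetherian X]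
    (hY : ∀ i, BlowUp.IsEffCartierIdeal (IY i)) (hD : BlowUp.IsEffCartierIdeal ID)
    (hCM : ∀ p : X, LocCoh.IsCohenMacaulayLocalRing (X.presheaf.stalk p))
    (hZ : RegImm.IsRegularImmersion RegImm.Kind.regular (⨆ i, IY i).subschemeι)
    (hZD : ∀ z : ↥(⨆ i, IY i).subscheme, ringKrullDim ((⨆ i, IY i).subscheme.presheaf.stalk z) = 0 →
      (⨆ i, IY i).subschemeι.base z ∉ Set.range ID.subschemeι.base)
    (C : KoszSh.Cx (∐ fun i => ClSub.idealMod (IY i)) (sumι IY)) (q : ℕ)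
    (U : X.affineOpens) (x : Γ(X, U.1)) (hxU : ID.ideal U = Ideal.span {x}) :
    IsSMulRegular Γ(C.K.homology q, U.1) x := by
  intro h₁ h₂ h12
  refine sub_eq_zero.1 ?_
  have hh0 : x • (h₁ - h₂) = 0 := by rw [smul_sub]; exact sub_eq_zero.2 h12
  revert hh0
  generalize h₁ - h₂ = h
  intro hh
  refine TopCat.Presheaf.section_ext ((Groth.L21.Mod.toAbSh X).obj (C.K.homology q)) U.1 _ _ fun p hp => ?_
  show (C.K.homology q).presheaf.germ U.1 p hp h = (C.K.homology q).presheaf.germ U.1 p hp 0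
  obtain ⟨ζ, hζ⟩ := (Groth.L21.Mod.epi_iff_stalk_surjective (C.K.homologyπ q)).1 inferInstance p
    ((C.K.homology q).presheaf.germ U.1 p hp h)
  obtain ⟨W, hpW, z, rfl⟩ := (C.K.cycles q).presheaf.germ_exist ζ
  rw [Groth.L21.Mod.stalkF_map_germ] at hζ
  obtain ⟨W₁, hpW₁, i₁, i₂, heq⟩ := TopCat.Presheaf.germ_eq (C.K.homology q).presheaf p hpW hp _ _ hζ
  set z₁ := rs (C.K.cycles q) i₁.le z
  have hπz : (C.K.homologyπ q).app W₁ z₁ = rs (C.K.homology q) i₂.le h := (rs_app _ _ _).trans heq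
  have hprev : (ComplexShape.down ℕ).prev q = q + 1 := by simp
  have hexS := (Groth.L21.Mod.exact_iff_stalk
    (ShortComplex.mk (C.K.toCycles (q + 1) q) (C.K.homologyπ q) (C.K.toCycles_comp_homologyπ _ _))).1
    (ShortComplex.exact_of_g_is_cokernel _ (C.K.homologyIsCokernel (q + 1) q hprev)) p
  rw [ShortComplex.ab_exact_iff] at hexS
  set x₁ := Groth.L18.Frame.ro i₂.le x
  have hxz : (C.K.homologyπ q).app W₁ (x₁ • z₁) = 0 := by
    rw [Scheme.Modules.Hom.app_smul, hπz, ← Groth.L18.Frame.rs_smul, hh]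
    exact map_zero _
  obtain ⟨ω, hω⟩ := hexS ((C.K.cycles q).presheaf.germ W₁ p hpW₁ (x₁ • z₁)) (by
    show (Groth.L21.Mod.stalkF X p).map (C.K.homologyπ q) _ = 0
    rw [Groth.L21.Mod.stalkF_map_germ, hxz]
    exact map_zero _)
  obtain ⟨W₂, hpW₂, w, rfl⟩ := (C.K.X (q + 1)).presheaf.germ_exist ω
  change (Groth.L21.Mod.stalkF X p).map (C.K.toCycles (q + 1) q) _ = _ at hω
  rw [Groth.L21.Mod.stalkF_map_germ] at hω
  obtain ⟨W₃, hpW₃, j₁, j₂, heq'⟩ := TopCat.Presheaf.germ_eq (C.K.cycles q).presheaf p hpW₂ hpW₁ _ _ hω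
  obtain ⟨U₀, hpU₀, gs, hgs, hJ⟩ := exists_regular_gens (⨆ i, IY i) hZ p
  obtain ⟨F, hpF, hFle⟩ := exists_frames IY ID hY hD p (W₃ ⊓ U₀.1) ⟨hpW₃, hpU₀⟩
  obtain ⟨g, hgle, hpg⟩ := U₀.2.exists_basicOpen_le (V := F.U.1) ⟨p, hpF⟩ hpU₀
  let V : X.affineOpens := X.affineBasicOpen g
  have hVW₃ : V.1 ≤ W₃ := hgle.trans (hFle.trans inf_le_left)
  letI : Algebra Γ(X, U₀.1) Γ(X, V.1) := (X.presheaf.map (homOfLE (X.basicOpen_le g)).op).hom.toAlgebra
  haveI : IsLocalization.Away g Γ(X, V.1) := U₀.2.isLocalization_basicOpen g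
  haveI : Module.Flat Γ(X, U₀.1) Γ(X, V.1) := IsLocalization.flat _ (Submonoid.powers g)
  let gs' := gs.map (algebraMap Γ(X, U₀.1) Γ(X, V.1))
  have hJV : (⨆ i, IY i).ideal V = Ideal.ofList gs' := by
    rw [← (⨆ i, IY i).map_ideal_basicOpen U₀ g, hJ, Ideal.map_ofList]
    rfl
  have hgs' : IsWeaklyRegular Γ(X, V.1) gs' := hgs.of_flat
  let e : ∀ i, Γ(ClSub.idealMod (IY i), V.1) := fun i => rs _ hgle (F.e i)
  have he : ∀ i, IsFrame _ V.1 (e i) := fun i => (F.he i).mono hgle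
  let b := sigmaBasis (fun i => ClSub.idealMod (IY i)) V.1 e he
  have hval : ∀ i, KoszSh.secForm (sumι IY) V.1 (b i) = io (IY i) V.1 (e i) := fun i => by
    show OmegaSh.fnSect X V.1 _ = _
    rw [sigmaBasis_apply, ← comp_app_apply, Sigma.ι_desc]
    rfl
  set xV := Groth.L18.Frame.ro ((hVW₃.trans j₂.le).trans i₂.le) x
  have hxV : ID.ideal V = Ideal.span {xV} := by
    rw [← Scheme.IdealSheafData.map_ideal ID (U := V) (V := U) ((hVW₃.trans j₂.le).trans i₂.le), hxU,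
      Ideal.map_span, Set.image_singleton]
    rfl
  let z₂ := rs (C.K.cycles q) (hVW₃.trans j₂.le) z₁
  let w₂ := rs (C.K.X (q + 1)) (hVW₃.trans j₁.le) w
  have htw : (C.K.toCycles (q + 1) q).app V.1 w₂ = xV • z₂ := by
    refine (rs_app _ _ _).trans ?_
    have := congrArg (rs (C.K.cycles q) hVW₃) heq'
    change rs (C.K.cycles q) hVW₃ (rs _ j₁.le _) = rs (C.K.cycles q) hVW₃ (rs _ j₂.le _) at this
    rw [Groth.L18.Frame.rs_rs, Groth.L18.Frame.rs_rs] at this
    rw [this, Groth.L18.Frame.rs_smul]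
    congr 1
    exact Groth.L18.Frame.ro_ro _ _ _
  set φ := KoszSh.secForm (sumι IY) V.1
  set zk := C.loc q V ((C.K.iCycles q).app V.1 z₂)
  have hdz : contr φ (zk : ExteriorAlgebra Γ(X, V.1) Γ((∐ fun i => ClSub.idealMod (IY i)), V.1)) = 0 := by
    cases q with
    | zero => exact contr_pow_zero φ zk.2
    | succ q =>
      rw [← loc_d_coe, ← comp_app_apply, C.K.iCycles_d, zero_app, map_zero]
      rfl
  have hspan : Ideal.span (Set.range gs'.get) = Ideal.span (Set.range fun i => φ (b i)) := by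
    rw [Set.range_list_get]
    show Ideal.ofList gs' = _
    rw [← hJV, Scheme.IdealSheafData.ideal_iSup, iSup_apply, Ideal.span_range_eq_iSup]
    exact iSup_congr fun i => (ideal_eq_span (IY i) (he i)).trans (by rw [hval])
  have hreg : ∀ r, xV * r ∈ Ideal.span (Set.range gs'.get) → r ∈ Ideal.span (Set.range gs'.get) := by
    rw [Set.range_list_get]
    intro r hr
    have := regular_mod (⨆ i, IY i) ID hCM hZD V gs' hgs' hJV xV hxV r
    rw [hJV] at this
    exact this hr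
  have hbd : (C.loc q V ((C.K.d (q + 1) q).app V.1 w₂) : ExteriorAlgebra Γ(X, V.1) Γ((∐ fun i => ClSub.idealMod (IY i)), V.1)) =
      xV • (zk : ExteriorAlgebra Γ(X, V.1) Γ((∐ fun i => ClSub.idealMod (IY i)), V.1)) := by
    rw [← C.K.toCycles_i, comp_app_apply, htw, Scheme.Modules.Hom.app_smul, map_smul]
    rfl
  obtain ⟨a, ha, hda⟩ := mem_boundaries_of_smul b φ gs'.get (by rw [List.ofFn_get]; exact hgs') hspan
    hreg q zk.2 hdz ⟨_, (C.loc (q + 1) V w₂).2, (loc_d_coe C q V w₂).symm.trans hbd⟩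
  let w' := (C.loc (q + 1) V).symm ⟨a, ha⟩
  have hz₂ : (C.K.toCycles (q + 1) q).app V.1 w' = z₂ := by
    refine app_injective_of_mono (C.K.iCycles q) V.1 ((C.loc q V).injective (Subtype.ext ?_))
    rw [← comp_app_apply, C.K.toCycles_i, loc_d_coe, LinearEquiv.apply_symm_apply]
    exact hda
  have hpV : p ∈ V.1 := hpg
  rw [← (C.K.homology q).presheaf.germ_res_apply (homOfLE ((hVW₃.trans j₂.le).trans i₂.le)) p hpV h, map_zero]
  change (C.K.homology q).presheaf.germ V.1 p hpV (rs _ ((hVW₃.trans j₂.le).trans i₂.le) h) = _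
  rw [← Groth.L18.Frame.rs_rs (C.K.homology q) i₂.le (hVW₃.trans j₂.le), ← hπz, ← rs_app, show rs _ _ z₁ = z₂ from rfl, ← hz₂,
    ← comp_app_apply, C.K.toCycles_comp_homologyπ, zero_app, map_zero]

end Groth.L04.KSh
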